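import Mathlib
import Cfsg.Agent.R3.Basic
import Cfsg.Agent.GH.TriG

/-! Dihedral lemmas (piece R3-Dih). See `stubs/Cfsg/Agent/R3/PLAN.md`. -/

set_option autoImplicit false
set_option linter.unusedSectionVars false

namespace Cfsg.Agent.R3

open Cfsg.Agent.Inv.Fz Cfsg.Agent.GH Subgroup
open scoped commutatorElement

variable {G : Type*} [Group G] [Finite G]

open Cfsg.Agent.NE

namespace Dih

theorem zW (f : Fr0 G) : f.z ∈ f.W := f.mem_W.2 (Or.inr (Or.inl rfl))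

theorem wW (f : Fr0 G) : f.w ∈ f.W := f.mem_W.2 (Or.inr (Or.inr (Or.inl rfl)))

theorem lB (f : Fr0 G) : f.l ∈ f.B := subset_closure (by simp)

theorem bB (f : Fr0 G) : f.b ∈ f.B := subset_closure (by simp)

theorem fixW (f : Fr0 G) {r u : G} (hr : r ∈ f.R) (hu : u ∈ f.W) : r * u * r⁻¹ = u :=
  conj_eq_of_comm ((f.mem_R.1 hr).2 u hu)

theorem fixz (f : Fr0 G) {g : G} (hg : g ∈ f.S) : g * f.z * g⁻¹ = f.z := conj_eq_of_comm (f.zc g hg).symm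

theorem sqL (f : Fr0 G) {m k : G} (hm : m ∈ f.L) (hk : k ∈ f.L) : m * k * (m * k) = m * m * (k * k) := by
  rw [mul_assoc, ← comm_assoc (f.commL hm hk), mul_assoc]

theorem inv_eq {m u : G} (h : m * m = u) (h2 : u * u = 1) : m⁻¹ = m * u := by
  rw [inv_eq_iff_mul_eq_one, ← mul_assoc, h, h2]

theorem actV (f : Fr0 G) {t u v : G} (ht : t ∈ f.R) (ta : t * f.a * t⁻¹ = f.a * u) (hu : u ∈ f.W) (hv : v ∈ f.W) :
    t * (f.a * v) * t⁻¹ = f.a * v * u := by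
  rw [conj_mul', ta, fixW f ht hv, mul_assoc, mul_assoc, f.commV (f.WV hu) (f.WV hv)]

theorem inW (f : Fr0 G) {t u v : G} (ht : t ∈ f.R) (ta : t * f.a * t⁻¹ = f.a * u) (hu : u ∈ f.W) (u1 : u ≠ 1)
    (hv : v ∈ f.V) (hc : t * v * t⁻¹ = v) : v ∈ f.W := by
  rcases f.mem_V.1 hv with h | ⟨p, hp, rfl⟩
  · exact h
  · rw [actV f ht ta hu hp, mul_eq_left] at hc
    exact absurd hc u1

theorem a_mul (f : Fr0 G) {ρ p : G} (hρ : ρ ∈ f.R) (ρa : ρ * f.a * ρ⁻¹ = f.a * p) (hp : p ∈ f.W) :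
    f.a * ρ = ρ * (f.a * p) := by
  rw [← mul_assoc, mul_inv_eq_iff_eq_mul.1 ρa, mul_assoc (f.a * p), (f.mem_R.1 hρ).2 p hp, ← mul_assoc,
    mul_assoc f.a, f.elW.sq p hp, mul_one]

theorem e16 (f : Fr0 G) {x u : G} (hx : x ∈ f.R) (hu : u ∈ f.R) (x2 : x * x = 1) (u2 : u * u = 1)
    (hc : x * u = u * x) (xa : x * f.a * x⁻¹ = f.a * f.z) (u1 : u ∉ f.E) : False := by
  have WE : f.W ≤ f.E := f.WV.trans (f.VC.trans f.CE)
  rcases f.n16.four (f.WV.trans f.VS) f.elW (f.RS hx) (f.RS hu) x2 u2 (f.mem_R.1 hx).2 (f.mem_R.1 hu).2 hc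
    with k | k | k
  · rw [conj_eq_of_comm (f.commV (f.WV k) f.aV), eq_comm, mul_eq_left] at xa
    exact f.z_ne xa
  · exact u1 (WE k)
  · exact u1 ((mul_mem_cancel_left (f.mem_E.2 ⟨f.RS hx, Or.inr xa⟩)).1 (WE k))

/-- An element of order four in `⟨ρ²⟩`. -/
theorem ord4 (f : Fr0 G) {ρ : G} (hρ : ρ ∈ f.R) (h4 : ρ * ρ * (ρ * ρ) ≠ 1) :
    ∃ h ∈ zpowers (ρ * ρ), h ∈ zpowers ρ ∧ h ∈ f.C ∧ h * h ≠ 1 ∧ h * h ∈ f.V ∧ h * h * (h * h) = 1 := by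
  obtain ⟨h, k1, k2, k3⟩ := exists_pow_four f.two (f.RS (mul_mem hρ hρ)) h4
  have hC : h ∈ f.C := zpowers_le.2 (f.sq_R hρ) k1
  exact ⟨h, k1, zpowers_le.2 (mul_mem (mem_zpowers ρ) (mem_zpowers ρ)) k1, hC, k2,
    f.inv_C (mul_mem hC hC) k3, k3⟩

theorem fix_sq {t h : G} (hi : t * h * t⁻¹ = h⁻¹) (h4 : h * h * (h * h) = 1) : t * (h * h) * t⁻¹ = h * h := by
  rw [conj_mul', hi, ← mul_inv_rev, inv_of_sq h4]

theorem sqW (f : Fr0 G) {t₀ t₁ : G} (h₀ : t₀ ∈ f.R) (h₁ : t₁ ∈ f.R) (s₀ : t₀ * t₀ = 1) (s₁ : t₁ * t₁ = 1)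
    (a₀ : t₀ * f.a * t₀⁻¹ = f.a * f.z) (a₁ : t₁ * f.a * t₁⁻¹ = f.a * f.w) (c₀ : Cz t₀ f.B) (c₁ : Cz t₁ f.B) :
    t₀ * t₁ * (t₀ * t₁) ∈ f.W := by
  obtain ⟨i₀, i₁⟩ := inverts_mul s₀ s₁
  have hρ := mul_mem h₀ h₁
  have cρ := c₀.mul c₁
  generalize t₀ * t₁ = ρ at *
  by_cases h4 : ρ * ρ * (ρ * ρ) = 1
  · exact inW f h₀ a₀ (zW f) f.z_ne (f.inv_C (f.sq_R hρ) h4) (fix_sq i₀ h4)
  exfalso
  obtain ⟨h, -, k1, hC, k2, k3, k4⟩ := ord4 f hρ h4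
  have j₀ := inverts_zpowers i₀ k1
  have j₁ := inverts_zpowers i₁ k1
  have hW := inW f h₀ a₀ (zW f) f.z_ne k3 (fix_sq j₀ k4)
  obtain ⟨m, hm, m2⟩ := f.root_B hW
  obtain ⟨v, hv, e⟩ := f.eq_of_sq (f.BL hm) hC (comm_zpowers (cρ m hm).symm k1) m2.symm
  have key : ∀ t, Cz t f.B → t * h * t⁻¹ = h⁻¹ → t * v * t⁻¹ = v * (h * h) := fun t c j => by
    rw [inv_eq rfl k4] at j
    generalize h * h = p at j
    rw [e, conj_mul', conj_eq_of_comm (c m hm), mul_assoc m v, mul_right_inj] at j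
    exact j
  have l₀ := key t₀ c₀ j₀
  have l₁ := key t₁ c₁ j₁
  rcases f.mem_V.1 hv with k | ⟨p, hp, rfl⟩
  · rw [fixW f h₀ k, eq_comm, mul_eq_left] at l₀
    exact k2 l₀
  · rw [actV f h₀ a₀ (zW f) hp, mul_right_inj] at l₀
    rw [actV f h₁ a₁ (wW f) hp, mul_right_inj] at l₁
    exact f.w_ne_z (l₁.trans l₀.symm)

theorem sq1 (f : Fr0 G) {ρ p β : G} (hρ : ρ ∈ f.R) (ρa : ρ * f.a * ρ⁻¹ = f.a * p) (hp : p ∈ f.W) (c : Cz ρ f.B)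
    (hβ : β ∈ f.B) : ρ * (f.a * β) * (ρ * (f.a * β)) = ρ * ρ * (p * (β * β)) := by
  have aL := f.VL f.aV
  calc _ = ρ * (f.a * (β * ρ) * (f.a * β)) := by group
    _ = ρ * (f.a * ρ * (β * f.a) * β) := by rw [← c β hβ]; group
    _ = ρ * (ρ * (f.a * p * f.a) * (β * β)) := by rw [a_mul f hρ ρa hp, f.commL (f.BL hβ) aL]; group
    _ = _ := by rw [f.commL aL (f.VL (f.WV hp)), mul_assoc p, f.aa, mul_one]; group

theorem modify (f : Fr0 G) {t u β : G} (ht : t ∈ f.R) (t2 : t * t = 1) (ta : t * f.a * t⁻¹ = f.a * u)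
    (hu : u ∈ f.W) (c : Cz t f.B) (hβ : β ∈ f.B) (β2 : β * β = u) :
    t * (f.a * β) ∈ f.R ∧ t * (f.a * β) * (t * (f.a * β)) = 1 ∧
      t * (f.a * β) * f.a * (t * (f.a * β))⁻¹ = f.a * u := by
  have aL := f.VL f.aV
  have xL := mul_mem aL (f.BL hβ)
  refine ⟨mul_mem ht (f.CR (f.LC xL)), ?_, ?_⟩
  · rw [sq1 f ht ta hu c hβ, t2, β2, one_mul, f.elW.sq u hu]
  · rw [← conj_conj, conj_eq_of_comm (f.commL xL aL), ta]

theorem nc (f : Fr0 G) {t₀ t₁ : G} (h₀ : t₀ ∈ f.R) (h₁ : t₁ ∈ f.R) (s₀ : t₀ * t₀ = 1) (s₁ : t₁ * t₁ = 1)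
    (a₀ : t₀ * f.a * t₀⁻¹ = f.a * f.z) (a₁ : t₁ * f.a * t₁⁻¹ = f.a * f.w) : t₀ * t₁ * (t₀ * t₁) ≠ 1 := fun e => by
  refine e16 f h₀ h₁ s₀ s₁ ?_ a₀ fun k => ?_
  · rw [← inv_of_sq e, mul_inv_rev, inv_of_sq s₀, inv_of_sq s₁]
  · rcases (f.mem_E.1 k).2 with k | k <;> rw [a₁] at k
    · exact f.w_ne (mul_eq_left.1 k)
    · exact f.w_ne_z (mul_left_cancel k)

theorem noB2 (f : Fr0 G) {t₀ t₁ : G} (h₀ : t₀ ∈ f.R) (h₁ : t₁ ∈ f.R) (s₀ : t₀ * t₀ = 1) (s₁ : t₁ * t₁ = 1)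
    (a₀ : t₀ * f.a * t₀⁻¹ = f.a * f.z) (a₁ : t₁ * f.a * t₁⁻¹ = f.a * f.w) (c₀ : Cz t₀ f.B) (c₁ : Cz t₁ f.B) :
    False := by
  obtain ⟨h₀', s₀', a₀'⟩ := modify f h₀ s₀ a₀ (zW f) c₀ (lB f) f.ll
  obtain ⟨h₁', s₁', a₁'⟩ := modify f h₁ s₁ a₁ (wW f) c₁ (bB f) f.bb
  have hρ := mul_mem h₀ h₁
  have cρ := c₀.mul c₁
  have ρa : t₀ * t₁ * f.a * (t₀ * t₁)⁻¹ = f.a * (f.z * f.w) := by
    rw [← conj_conj, a₁, conj_mul', a₀, fixW f h₀ (wW f), mul_assoc]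
  have zw := mul_mem (zW f) (wW f)
  have wl := mul_mem (f.WB (wW f)) (lB f)
  have wL := f.VL f.wV
  have aL := f.VL f.aV
  have wl2 : f.w * f.l * (f.w * f.l) = f.z := by rw [sqL f wL (f.BL (lB f)), f.ww, f.ll, one_mul]
  have e1 : t₀ * (f.a * f.l) * t₁ = t₀ * t₁ * (f.a * (f.w * f.l)) := by
    rw [mul_assoc, mul_assoc, ← c₁ _ (lB f), ← mul_assoc f.a, a_mul f h₁ a₁ (wW f)]
    group
  have czw := f.commV f.zV f.wV
  rcases f.mem_W.1 (sqW f h₀ h₁ s₀ s₁ a₀ a₁ c₀ c₁) with k | k | k | k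
  · exact nc f h₀ h₁ s₀ s₁ a₀ a₁ k
  · refine nc f h₀ h₁' s₀ s₁' a₀ a₁' ?_
    rw [← mul_assoc t₀ t₁, sq1 f hρ ρa zw cρ (bB f), k, f.bb, mul_assoc f.z f.w, f.ww, mul_one, f.zz]
  · refine nc f h₀' h₁ s₀' s₁ a₀' a₁ ?_
    rw [e1, sq1 f hρ ρa zw cρ wl, k, wl2, czw, mul_assoc f.w f.z, f.zz, mul_one, f.ww]
  · refine nc f h₀' h₁' s₀' s₁' a₀' a₁' ?_
    have e2 : t₀ * (f.a * f.l) * (t₁ * (f.a * f.b)) = t₀ * t₁ * (f.w * f.l * f.b) := by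
      rw [← mul_assoc, e1, mul_assoc (t₀ * t₁), f.commL aL (f.BL wl), mul_assoc (f.w * f.l), sq_cancel f.aa]
    have c := cρ _ (mul_mem wl (bB f))
    rw [e2, mul_assoc, ← comm_assoc c, ← mul_assoc, k, sqL f (f.BL wl) (f.BL (bB f)), wl2, f.bb]
    exact f.elW.sq _ zw

theorem yzw (f : Fr0 G) : f.y * (f.z * f.w) * f.y⁻¹ = f.z := by
  rw [conj_mul', f.yz, f.yw, comm_assoc (f.commV f.wV f.zV), f.ww, mul_one]

theorem conj_sq {x σ : G} (hi : x * σ * x⁻¹ = σ⁻¹) : σ⁻¹ * x * σ⁻¹⁻¹ = x * (σ * σ) := by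
  rw [inv_inv, ← hi]
  group

end Dih

open Dih

/-- No involution of `R` outside `C` centralises `B`. -/
theorem Fr0.noB (f : Fr0 G) {t : G} (ht : t ∈ f.R) (h1 : t ∉ f.C) (h2 : t * t = 1) (hB : Cz t f.B) : False := by
  have step : ∀ t u, t ∈ f.R ∧ t * t = 1 ∧ Cz t f.B ∧ t * f.a * t⁻¹ = f.a * u →
      f.y * t * f.y⁻¹ ∈ f.R ∧ f.y * t * f.y⁻¹ * (f.y * t * f.y⁻¹) = 1 ∧ Cz (f.y * t * f.y⁻¹) f.B ∧
        f.y * t * f.y⁻¹ * f.a * (f.y * t * f.y⁻¹)⁻¹ = f.a * (f.y * u * f.y⁻¹) := by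
    rintro t u ⟨k1, k2, k3, k4⟩
    refine ⟨(conj_mem_norm f.yR').2 k1, by rw [← conj_mul', k2, mul_one, mul_inv_cancel], k3.conj f.yB, ?_⟩
    calc _ = f.y * t * f.y⁻¹ * (f.y * f.a * f.y⁻¹) * (f.y * t * f.y⁻¹)⁻¹ := by rw [f.ya]
      _ = f.y * (t * f.a * t⁻¹) * f.y⁻¹ := by group
      _ = _ := by rw [k4, conj_mul', f.ya]
  have c0 : ∀ t, t ∈ f.R ∧ t * t = 1 ∧ Cz t f.B ∧ t * f.a * t⁻¹ = f.a * f.z → False := fun t k => by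
    obtain ⟨l1, l2, l3, l4⟩ := step t _ k
    rw [f.yz] at l4
    exact noB2 f k.1 l1 k.2.1 l2 k.2.2.2 l4 k.2.2.1 l3
  have c2 : ∀ t, t ∈ f.R ∧ t * t = 1 ∧ Cz t f.B ∧ t * f.a * t⁻¹ = f.a * (f.z * f.w) → False := fun t k => by
    have l := step t _ k
    rw [yzw f] at l
    exact c0 _ l
  obtain ⟨u, hu, e⟩ := f.act_R ht
  rcases f.mem_W.1 hu with rfl | rfl | rfl | rfl
  · exact h1 (f.mem_C.2 ⟨ht, by rw [e, mul_one]⟩)
  · exact c0 t ⟨ht, h2, hB, e⟩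
  · have l := step t _ ⟨ht, h2, hB, e⟩
    rw [f.yw] at l
    exact c2 _ l
  · exact c2 t ⟨ht, h2, hB, e⟩

/-- An involution `s` outside `R` against an involution `u` over `τ₁` or `τ₂` that inverts a root of `z`. -/
theorem Fr.dih (f : Fr G) {s u m : G} (hs : s ∈ f.S) (s1 : s ∉ f.R) (s2 : s * s = 1) (hu : u ∈ f.R) (u1 : u ∉ f.E)
    (u2 : u * u = 1) (hm : m ∈ f.L) (m2 : m * m = f.z) (hi : u * m * u⁻¹ = m⁻¹) :
    (s * (u * s * u⁻¹)) ^ 4 ≠ 1 ∧ ∃ h ∈ f.L, h * h = f.z ∧ h * m⁻¹ ∈ f.W ∧ s * h * s⁻¹ = h⁻¹ ∧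
      (∃ g ∈ f.S, g * s * g⁻¹ = s * h) ∧ ∃ g ∈ f.S, g * u * g⁻¹ = u * h := by
  obtain ⟨sE, sw, sm, -⟩ := f.out hs s1 s2
  have uS := f.RS hu
  have sz := fixz f.toFr0 hs
  have uz := fixz f.toFr0 uS
  obtain ⟨p, hp, ua⟩ := f.act_R hu
  have p1 : p ≠ 1 := fun k => u1 (f.mem_E.2 ⟨uS, Or.inl (by rw [ua, k, mul_one])⟩)
  have sW : ∀ v ∈ f.W, v = 1 ∨ v = f.z ∨ s * v * s⁻¹ = v * f.z := fun v hv => by
    rcases f.mem_W.1 hv with k | k | k | k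
    · exact Or.inl k
    · exact Or.inr (Or.inl k)
    · exact Or.inr (Or.inr (by rw [k, sw]))
    · exact Or.inr (Or.inr (by rw [k, conj_mul', sz, sw, mul_assoc]))
  have sp : s * p * s⁻¹ = p * f.z :=
    ((sW p hp).resolve_left p1).resolve_left fun k => u1 (f.mem_E.2 ⟨uS, Or.inr (by rw [ua, k])⟩)
  have up := fixW f.toFr0 hu hp
  have hρ : s * (u * s * u⁻¹) ∈ f.R := f.mul_R hs (mul_mem (mul_mem uS hs) (inv_mem uS)) s1
    fun k => s1 ((conj_mem_norm (f.nR uS)).1 k)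
  have cj : ∀ x, s * (u * s * u⁻¹) * x * (s * (u * s * u⁻¹))⁻¹ = s * (u * (s * (u * x * u⁻¹) * s⁻¹) * u⁻¹) * s⁻¹ :=
    fun x => by
      calc _ = s * (u * (s * (u⁻¹ * x * u⁻¹⁻¹) * s⁻¹) * u⁻¹) * s⁻¹ := by group
        _ = _ := by rw [inv_inv, inv_of_sq u2]
  have pz := f.commV (f.WV hp) f.zV
  have ρa : s * (u * s * u⁻¹) * f.a * (s * (u * s * u⁻¹))⁻¹ = f.a * f.z := by
    rw [cj, ua]
    rcases (f.mem_E.1 sE).2 with k | k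
    · rw [conj_mul' s f.a, k, sp, conj_mul' u, conj_mul' u, ua, up, uz, mul_assoc f.a, sq_cancel (f.elW.sq p hp),
        conj_mul', k, sz]
    · rw [conj_mul' s f.a, k, sp, pz, mul_assoc f.a, sq_cancel f.zz, conj_mul' u, ua, up, mul_assoc f.a,
        f.elW.sq p hp, mul_one, k]
  have mi := inv_eq m2 f.zz
  have ρm : s * (u * s * u⁻¹) * m * (s * (u * s * u⁻¹))⁻¹ = m := by
    rw [cj, hi, mi]
    rcases sm m hm m2 with k | k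
    · rw [conj_mul' s m, k, sz, conj_mul' u, hi, mi, uz, mul_assoc m, f.zz, mul_one, k]
    · rw [conj_mul' s m, k, sz, mul_assoc m, f.zz, mul_one, hi, mi, conj_mul', k, sz, mul_assoc m, f.zz, mul_one]
  have is : s * (s * (u * s * u⁻¹)) * s⁻¹ = (s * (u * s * u⁻¹))⁻¹ :=
    (inverts_mul s2 (by rw [← conj_mul', s2, mul_one, mul_inv_cancel])).1
  have iu : u * (s * (u * s * u⁻¹)) * u⁻¹ = (s * (u * s * u⁻¹))⁻¹ := by
    rw [conj_mul', conj_conj u u, u2, one_mul, inv_one, mul_one, mul_inv_rev, inv_of_sq s2, conj_inv, inv_of_sq s2]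
  generalize s * (u * s * u⁻¹) = ρ at *
  have toz : ∀ v ∈ f.V, ρ * v * ρ⁻¹ = v → s * v * s⁻¹ = v → v = 1 ∨ v = f.z := fun v hv k1 k2 => by
    rcases sW v (inW f.toFr0 hρ ρa (zW _) f.z_ne hv k1) with k | k | k
    · exact Or.inl k
    · exact Or.inr k
    · rw [k2, eq_comm, mul_eq_left] at k
      exact absurd k f.z_ne
  have cm := comm_of_conj_eq ρm
  have h4 : ρ * ρ * (ρ * ρ) ≠ 1 := fun h4 => by
    rcases toz _ (f.inv_C (f.sq_R hρ) h4) (by group) (fix_sq is h4) with k | k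
    · exact e16 f.toFr0 hρ hu k u2 (comm_of_conj_eq (iu.trans (inv_of_sq k))).symm ρa u1
    · have x2 : ρ * m * (ρ * m) = 1 := by rw [mul_assoc, ← comm_assoc cm, ← mul_assoc, k, m2, f.zz]
      refine e16 f.toFr0 (mul_mem hρ (f.CR (f.LC hm))) hu x2 u2 (comm_of_conj_eq ?_).symm ?_ u1
      · rw [conj_mul', iu, hi, ← mul_inv_rev, ← cm, inv_of_sq x2]
      · rw [← conj_conj, conj_eq_of_comm (f.commL hm (f.VL f.aV)), ρa]
  refine ⟨fun k => h4 (by rw [← k, show 4 = 2 + 2 from rfl, pow_add, pow_two]), ?_⟩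
  obtain ⟨h, k0, k1, hC, k2, k3, k4⟩ := ord4 f.toFr0 hρ h4
  have js := inverts_zpowers is k1
  have ju := inverts_zpowers iu k1
  have hz : h * h = f.z := (toz _ k3 (conj_eq_of_comm (comm_zpowers rfl (mul_mem k1 k1))) (fix_sq js k4)).resolve_left k2
  obtain ⟨v, hv, e⟩ := f.eq_of_sq hm hC (comm_zpowers cm.symm k1) (hz.trans m2.symm)
  have vW : v ∈ f.W := by
    refine inW f.toFr0 hu ua hp p1 hv ?_
    rw [inv_eq hz f.zz, e, conj_mul', hi, mi, mul_assoc m v, ← f.zc v (f.VS hv), ← mul_assoc m, mul_right_inj] at ju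
    exact ju
  obtain ⟨n, hn⟩ := k0
  have hn' : h = ρ ^ n * ρ ^ n := by rw [← hn]; exact Commute.mul_zpow rfl n
  have gS : (ρ ^ n)⁻¹ ∈ f.S := inv_mem (zpow_mem (f.RS hρ) n)
  refine ⟨h, e ▸ mul_mem hm (f.VL hv), hz, ?_, js, ⟨_, gS, ?_⟩, _, gS, ?_⟩
  · rw [e, conj_eq_of_comm (f.commL hm (f.VL hv))]
    exact vW
  · rw [hn', conj_sq (inverts_zpowers is (zpow_mem_zpowers ρ n))]
  · rw [hn', conj_sq (inverts_zpowers iu (zpow_mem_zpowers ρ n))]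

theorem Dih.inv_mul (f : Fr0 G) {t m k : G} (hm : m ∈ f.L) (hk : k ∈ f.L) (h1 : t * m * t⁻¹ = m⁻¹)
    (h2 : t * k * t⁻¹ = k⁻¹) : t * (m * k) * t⁻¹ = (m * k)⁻¹ := by
  rw [conj_mul', h1, h2, ← mul_inv_rev, f.commL hm hk]

/-- An onto involution over `τ₀` that fixes a root of `z` inverts roots of all elements of `W`. -/
theorem Fr0.inv_root (f : Fr0 G) {t k : G} (ht : t ∈ f.R) (t2 : t * t = 1) (ta : t * f.a * t⁻¹ = f.a * f.z)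
    (ho : f.Onto t) (hk : k ∈ f.L) (k2 : k * k = f.z) (hc : t * k = k * t) {u : G} (hu : u ∈ f.W) :
    ∃ m ∈ f.L, m * m = u ∧ t * m * t⁻¹ = m⁻¹ := by
  have aL := f.VL f.aV
  have bL := f.BL (bB f)
  have tz := fixz f (f.RS ht)
  have LS : f.L ≤ f.S := f.LC.trans (f.CR.trans f.RS)
  have t1 : t ∉ f.C := fun h => by
    rw [(f.mem_C.1 h).2, eq_comm, mul_eq_left] at ta
    exact f.z_ne ta
  have rz : ∃ m ∈ f.L, m * m = f.z ∧ t * m * t⁻¹ = m⁻¹ := by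
    have e : k * f.a * (k * f.a) = f.z := by rw [sqL f hk aL, k2, f.aa, mul_one]
    exact ⟨_, mul_mem hk aL, e, by rw [conj_mul', conj_eq_of_comm hc, ta, inv_eq e f.zz, mul_assoc]⟩
  have rw' : ∃ m ∈ f.L, m * m = f.w ∧ t * m * t⁻¹ = m⁻¹ := by
    obtain ⟨p, hp, tb⟩ := f.act_inv ht t2 t1 bL
    have pm : ∀ x y, y ∈ f.L → (t * x * t⁻¹ = x ∨ t * x * t⁻¹ = x * f.z) → (t * y * t⁻¹ = y ∨ t * y * t⁻¹ = y * f.z) →
        (t * (x * y) * t⁻¹ = x * y ∨ t * (x * y) * t⁻¹ = x * y * f.z) := fun x y hy k1 k2 => by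
      have c := f.zc y (LS hy)
      rcases k1 with k1 | k1 <;> rcases k2 with k2 | k2 <;> rw [conj_mul', k1, k2]
      · exact Or.inl rfl
      · exact Or.inr (mul_assoc _ _ _).symm
      · exact Or.inr (by rw [mul_assoc, c, mul_assoc])
      · exact Or.inl (by rw [mul_assoc, comm_assoc c, f.zz, mul_one])
    have pV : ∀ v ∈ f.V, t * v * t⁻¹ = v ∨ t * v * t⁻¹ = v * f.z :=
      (f.mem_E'.1 (f.mem_E.2 ⟨f.RS ht, Or.inr ta⟩)).2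
    have no : ¬ (t * f.b * t⁻¹ = f.b ∨ t * f.b * t⁻¹ = f.b * f.z) := fun pb => by
      have lL := f.BL (lB f)
      obtain ⟨v₀, hv₀, e⟩ := f.eq_of_sq hk (f.LC lL) (f.commL hk lL) (f.ll.trans k2.symm)
      have pl : t * f.l * t⁻¹ = f.l ∨ t * f.l * t⁻¹ = f.l * f.z :=
        e ▸ pm k v₀ (f.VL hv₀) (Or.inl (conj_eq_of_comm hc)) (pV _ hv₀)
      obtain ⟨m, hm, e1⟩ := ho _ (wW f)
      have : t * m * t⁻¹ = m ∨ t * m * t⁻¹ = m * f.z := by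
        obtain ⟨v, hv, rfl | rfl | rfl | rfl⟩ := f.mem_L.1 hm
        · exact pV _ hv
        · exact pm _ _ (f.VL hv) pl (pV _ hv)
        · exact pm _ _ (f.VL hv) pb (pV _ hv)
        · exact pm _ _ (f.VL hv) (pm _ _ bL pl pb) (pV _ hv)
      rw [e1] at this
      rcases this with k | k
      · exact f.w_ne (mul_eq_left.1 k)
      · exact f.w_ne_z (mul_left_cancel k)
    rcases f.mem_W.1 hp with rfl | rfl | rfl | rfl
    · exact (no (Or.inl (by rw [tb, mul_one]))).elim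
    · exact (no (Or.inr tb)).elim
    · exact ⟨_, bL, f.bb, by rw [tb, inv_eq f.bb f.ww]⟩
    · have e : f.a * f.b * (f.a * f.b) = f.w := by rw [sqL f aL bL, f.aa, f.bb, one_mul]
      refine ⟨_, mul_mem aL bL, e, ?_⟩
      rw [conj_mul', ta, tb, inv_eq e f.ww, mul_assoc, mul_assoc, comm_assoc (f.zc _ (LS bL)), sq_cancel f.zz]
  rcases f.mem_W.1 hu with rfl | rfl | rfl | rfl
  · exact ⟨1, one_mem _, mul_one _, by simp⟩
  · exact rz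
  · exact rw'
  · obtain ⟨m₁, h₁, s₁, i₁⟩ := rz
    obtain ⟨m₂, h₂, s₂, i₂⟩ := rw'
    exact ⟨_, mul_mem h₁ h₂, by rw [sqL f h₁ h₂, s₁, s₂], Dih.inv_mul f h₁ h₂ i₁ i₂⟩

theorem Dih.actL (f : Fr0 G) {t h m : G} (hh : h ∈ f.L) (hm : m ∈ f.L) : t * h * m * (t * h)⁻¹ = t * m * t⁻¹ := by
  rw [← conj_conj, conj_eq_of_comm (f.commL hh hm)]

theorem Dih.onto_mul (f : Fr0 G) {t h : G} (ho : f.Onto t) (hh : h ∈ f.L) : f.Onto (t * h) := fun u hu => by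
  obtain ⟨m, hm, e⟩ := ho u hu
  exact ⟨m, hm, by rw [Dih.actL f hh hm, e]⟩

theorem Dih.conjW (f : Fr0 G) {t u : G} (ho : f.Onto t) (ht : t ∈ f.R) (hu : u ∈ f.W) : IsConj t (t * u) := by
  obtain ⟨m, hm, e⟩ := ho u hu
  refine isConj_iff.2 ⟨m⁻¹, ?_⟩
  rw [inv_inv, mul_assoc, mul_inv_eq_iff_eq_mul.1 e, mul_assoc, inv_mul_cancel_left, (f.mem_R.1 ht).2 u hu]

theorem Dih.step (f : Fr G) {s t m g : G} (hs : s ∈ f.S) (s1 : s ∉ f.R) (s2 : s * s = 1) (ht : t ∈ f.R)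
    (t2 : t * t = 1) (ta : t * f.a * t⁻¹ = f.a * f.z) (ho : f.Onto t) (hm : m ∈ f.L) (hi : t * m * t⁻¹ = m⁻¹)
    (gR : g ∈ normalizer (f.R : Set G)) (gL : g ∈ normalizer (f.L : Set G)) (gW : g ∈ normalizer (f.W : Set G))
    (ga : g * f.a * g⁻¹ = f.a) (gm : g * (m * m) * g⁻¹ = f.z) (gz : g * f.z * g⁻¹ ≠ f.z) : IsConj t (t * m) := by
  have cc : ∀ x, g * t * g⁻¹ * (g * x * g⁻¹) * (g * t * g⁻¹)⁻¹ = g * (t * x * t⁻¹) * g⁻¹ := fun x => by group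
  have u1 : g * t * g⁻¹ ∉ f.E := fun k => by
    have e := cc f.a
    rw [ta, conj_mul' g f.a, ga] at e
    rcases (f.mem_E.1 k).2 with k | k <;> rw [e] at k
    · exact f.z_ne (conj_eq_one_iff.1 (mul_eq_left.1 k))
    · exact gz (mul_left_cancel k)
  obtain ⟨-, h, hL, -, hW, -, -, r, -, e⟩ := f.dih hs s1 s2 ((conj_mem_norm gR).2 ht) u1
    (by rw [← conj_mul', t2, mul_one, mul_inv_cancel]) ((conj_mem_norm gL).2 hm) (by rw [← conj_mul', gm])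
    (by rw [cc, hi, conj_inv])
  have h'L := (conj_mem_norm (inv_mem gL)).2 hL
  have uW := (conj_mem_norm (inv_mem gW)).2 hW
  have c1 : IsConj t (t * (g⁻¹ * h * g⁻¹⁻¹)) := isConj_iff.2 ⟨g⁻¹ * r * g, by
    calc _ = g⁻¹ * (r * (g * t * g⁻¹) * r⁻¹) * g := by group
      _ = _ := by rw [e]; group⟩
  have c2 := Dih.conjW f.toFr0 (Dih.onto_mul f.toFr0 ho h'L) (mul_mem ht (f.CR (f.LC h'L))) (inv_mem uW)
  refine c1.trans (c2.trans (by_contra fun k => k ?_))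
  have e2 : g⁻¹ * (h * (g * m * g⁻¹)⁻¹) * g⁻¹⁻¹ = m⁻¹ * (g⁻¹ * h * g⁻¹⁻¹) := by
    rw [f.commL (inv_mem hm) h'L]
    group
  rw [e2, mul_inv_rev, inv_inv m, mul_assoc t, mul_inv_cancel_left]

/-- Such an involution is conjugate to its products with the elements it inverts. -/
theorem Fr.f3 (f : Fr G) {s t k : G} (hs : s ∈ f.S) (s1 : s ∉ f.R) (s2 : s * s = 1) (ht : t ∈ f.R) (t2 : t * t = 1)
    (ta : t * f.a * t⁻¹ = f.a * f.z) (ho : f.Onto t) (hk : k ∈ f.L) (k2 : k * k = f.z) (hc : t * k = k * t)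
    {m : G} (hm : m ∈ f.L) (hi : t * m * t⁻¹ = m⁻¹) : IsConj t (t * m) := by
  have back : ∀ x x', f.y * x * f.y⁻¹ = x' → f.y⁻¹ * x' * f.y⁻¹⁻¹ = x := fun x x' e => by rw [← e]; group
  have cw : ∀ t m, t ∈ f.R → t * t = 1 → t * f.a * t⁻¹ = f.a * f.z → f.Onto t → m ∈ f.L → t * m * t⁻¹ = m⁻¹ →
      m * m = f.w → IsConj t (t * m) := fun t m ht t2 ta ho hm hi m2 =>
    Dih.step f hs s1 s2 ht t2 ta ho hm hi (inv_mem f.yR') (inv_mem f.yL) (inv_mem f.yW) (back _ _ f.ya)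
      (by rw [m2]; exact back _ _ f.yz) (by
        rw [back _ _ (yzw f.toFr0)]
        exact fun e => f.w_ne (mul_eq_left.1 e))
  have czw : ∀ t m, t ∈ f.R → t * t = 1 → t * f.a * t⁻¹ = f.a * f.z → f.Onto t → m ∈ f.L → t * m * t⁻¹ = m⁻¹ →
      m * m = f.z * f.w → IsConj t (t * m) := fun t m ht t2 ta ho hm hi m2 =>
    Dih.step f hs s1 s2 ht t2 ta ho hm hi f.yR' f.yL f.yW f.ya (by rw [m2]; exact yzw f.toFr0)
      (by rw [f.yz]; exact f.w_ne_z)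
  rcases f.mem_W.1 (f.sq_L hm) with e | e | e | e
  · exact Dih.conjW f.toFr0 ho ht
      (inW f.toFr0 ht ta (zW _) f.z_ne (f.inv_C (f.LC hm) e) (hi.trans (inv_of_sq e)))
  · obtain ⟨m₁, h₁, q₁, i₁⟩ := f.inv_root ht t2 ta ho hk k2 hc (wW f.toFr0)
    have h₂ := mul_mem (inv_mem h₁) hm
    have i₂ := Dih.inv_mul f.toFr0 (inv_mem h₁) hm (by rw [← conj_inv, i₁]) hi
    have c2 := czw (t * m₁) (m₁⁻¹ * m) (mul_mem ht (f.CR (f.LC h₁)))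
      (by
        calc _ = t * m₁ * t⁻¹ * (t * t) * m₁ := by group
          _ = 1 := by rw [i₁, t2, mul_one, inv_mul_cancel])
      (by rw [Dih.actL f.toFr0 h₁ (f.VL f.aV), ta]) (Dih.onto_mul f.toFr0 ho h₁) h₂
      (by rw [Dih.actL f.toFr0 h₁ h₂, i₂])
      (by rw [sqL f.toFr0 (inv_mem h₁) hm, ← mul_inv_rev, q₁, e, inv_of_sq f.ww, f.commV f.wV f.zV])
    rw [mul_assoc, mul_inv_cancel_left] at c2
    exact (cw t m₁ ht t2 ta ho h₁ i₁ q₁).trans c2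
  · exact cw t m ht t2 ta ho hm hi e
  · exact czw t m ht t2 ta ho hm hi e

end Cfsg.Agent.R3
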