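import Mathlib
import Cfsg.Agent.R3.Basic
import Cfsg.Agent.GH.TriA
import Cfsg.Agent.ABG.SetupH

/-! The torus (piece R3-OmB). See `stubs/Cfsg/Agent/R3/PLAN.md`. -/

set_option autoImplicit false
set_option linter.unusedSectionVars false

namespace Cfsg.Agent.R3

open Cfsg.Agent.Inv.Fz Cfsg.Agent.GH Subgroup
open scoped commutatorElement

variable {G : Type*} [Group G] [Finite G]

namespace OmB

theorem ind2 {A : Subgroup G} (hA : IsPGroup 2 A) {P : G → Prop} (h1 : P 1) (step : ∀ x ∈ A, P (x * x) → P x) :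
    ∀ x ∈ A, P x := fun x hx => by
  obtain ⟨k, hk⟩ := hA ⟨x, hx⟩
  replace hk : x ^ 2 ^ k = 1 := congrArg Subtype.val hk
  induction k generalizing x with
  | zero => rwa [show x = 1 by simpa using hk]
  | succ k ih => exact step x hx (ih _ (mul_mem hx hx) (by rwa [← pow_two, ← pow_mul, ← pow_succ']))

theorem uniq {ρ z x : G} (hz : z ∈ zpowers ρ) (z2 : z * z = 1) (z1 : z ≠ 1) (hx : x ∈ zpowers ρ) (x2 : x * x = 1) :
    x = 1 ∨ x = z := by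
  by_cases h : x = 1
  · exact .inl h
  · exact .inr (ABG.eq_of_isCyclic_of_sq inferInstance hx hz x2 z2 h z1)

theorem cz {ρ x y : G} (hx : x ∈ zpowers ρ) (hy : y ∈ zpowers ρ) : x * y = y * x := by
  obtain ⟨i, rfl⟩ := hx
  obtain ⟨j, rfl⟩ := hy
  exact (Commute.zpow_zpow_self ρ i j).eq

theorem cmem {N : Subgroup G} {g x : G} (hg : g ∈ normalizer (N : Set G)) (hx : x ∈ N) : g * x * g⁻¹ ∈ N :=
  (mem_normalizer_iff.1 hg x).1 hx

/-- Commutators of elements that normalise a cyclic group centralise it. -/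
theorem comm_cz {ρ r r' : G} (h : r ∈ normalizer (zpowers ρ : Set G)) (h' : r' ∈ normalizer (zpowers ρ : Set G)) :
    ⁅r, r'⁆ * ρ = ρ * ⁅r, r'⁆ := by
  obtain ⟨i, hi⟩ := cmem (inv_mem h) (mem_zpowers ρ)
  obtain ⟨j, hj⟩ := cmem (inv_mem h') (mem_zpowers ρ)
  simp only at hi hj
  have e1 : r'⁻¹ * (r⁻¹ * ρ * r⁻¹⁻¹) * r'⁻¹⁻¹ = r⁻¹ * (r'⁻¹ * ρ * r'⁻¹⁻¹) * r⁻¹⁻¹ := by
    rw [← hi, ← conj_zpow, ← hj, ← conj_zpow, ← hi, ← zpow_mul, ← zpow_mul, mul_comm]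
  calc ⁅r, r'⁆ * ρ = r * r' * (r⁻¹ * (r'⁻¹ * ρ * r'⁻¹⁻¹) * r⁻¹⁻¹) * (r⁻¹ * r'⁻¹) := by
        rw [commutatorElement_def]; group
    _ = _ := by rw [← e1, commutatorElement_def]; group

/-- Counting in an abelian quotient with at most four elements of square one. -/
theorem cnt {H K N : Subgroup G} (hK : K ≤ H) (hc : ∀ a ∈ H, ∀ b ∈ H, ⁅a, b⁆ ∈ N) (hs : ∀ x ∈ H, x * x ∈ K)
    (c : Fin 4 → G) (hm : ∀ x ∈ H, x * x ∈ N → ∃ i, (c i)⁻¹ * x ∈ N) :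
    Nat.card H * Nat.card (K ⊓ N : Subgroup G) ≤ 4 * (Nat.card K * Nat.card (H ⊓ N : Subgroup G)) := by
  have hn : (N.subgroupOf H).Normal := ⟨fun n hn g => by
    have := mul_mem (hc g g.2 n n.2) hn
    simpa [mem_subgroupOf, commutatorElement_def] using this⟩
  let π := QuotientGroup.mk' (N.subgroupOf H)
  have hπ : ∀ x : H, π x = 1 ↔ (x : G) ∈ N := fun x => QuotientGroup.eq_one_iff x
  have sj : Function.Surjective π := QuotientGroup.mk'_surjective _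
  let _ : CommGroup (H ⧸ N.subgroupOf H) :=
    { (inferInstance : Group _) with
      mul_comm := fun a b => by
        obtain ⟨a, rfl⟩ := sj a
        obtain ⟨b, rfl⟩ := sj b
        have := (hπ ⁅a, b⁆).2 (hc a a.2 b b.2)
        rw [map_commutatorElement] at this
        exact commutatorElement_eq_one_iff_mul_comm.1 this }
  let σ : H ⧸ N.subgroupOf H →* H ⧸ N.subgroupOf H := powMonoidHom 2
  have h1 : Nat.card σ.ker ≤ 4 := by
    have : ∀ x : σ.ker, ∃ i : Fin 4, ∃ y : H, π y = x ∧ (c i)⁻¹ * y ∈ N := fun x => by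
      obtain ⟨y, hy⟩ := sj x
      have h2 : π (y * y) = 1 := by rw [map_mul, hy, ← pow_two]; exact x.2
      obtain ⟨i, hi⟩ := hm y y.2 ((hπ _).1 h2)
      exact ⟨i, y, hy, hi⟩
    choose t ht using this
    refine (Nat.card_le_card_of_injective t fun a b e => ?_).trans (by simp)
    obtain ⟨y, hy, k⟩ := ht a
    obtain ⟨y', hy', k'⟩ := ht b
    have h3 : π (y⁻¹ * y') = 1 := (hπ _).2 (by
      have := mul_mem (inv_mem k) (e ▸ k')
      simpa [mul_assoc] using this)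
    rw [map_mul, map_inv, inv_mul_eq_one, hy, hy'] at h3
    exact Subtype.ext h3
  let τ : K →* H ⧸ N.subgroupOf H := π.comp (inclusion hK)
  have h2 : σ.range ≤ τ.range := by
    rintro _ ⟨x, rfl⟩
    obtain ⟨y, rfl⟩ := sj x
    exact ⟨⟨y * y, hs y y.2⟩, by
      change π _ = π y ^ 2
      rw [pow_two, ← map_mul]; rfl⟩
  have h3 : Nat.card τ.ker = Nat.card (K ⊓ N : Subgroup G) := by
    rw [show τ.ker = (K ⊓ N).subgroupOf K from Subgroup.ext fun x => by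
      rw [MonoidHom.mem_ker, mem_subgroupOf, mem_inf, and_iff_right x.2]; exact hπ _,
      Nat.card_congr (subgroupOfEquivOfLe inf_le_left).toEquiv]
  have h4 : Nat.card (N.subgroupOf H) = Nat.card (H ⊓ N : Subgroup G) := by
    rw [← inf_subgroupOf_left, Nat.card_congr (subgroupOfEquivOfLe inf_le_left).toEquiv]
  have h5 := τ.ker.card_mul_index
  have h6 := σ.ker.card_mul_index
  have h7 := (N.subgroupOf H).card_mul_index
  rw [index_ker] at h5 h6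
  have h8 := card_le_of_le h2
  rw [h3] at h5
  rw [h4, index_eq_card, ← h6] at h7
  rw [← h7, ← h5]
  calc _ ≤ Nat.card (H ⊓ N : Subgroup G) * (4 * Nat.card τ.range) * Nat.card (K ⊓ N : Subgroup G) := by gcongr
    _ = _ := by ring

variable (f : Fr G) {ρ : G}

theorem pR : IsPGroup 2 f.R := f.two.to_le f.RS

theorem z_mem (hρ : f.Cy f.s ρ) : f.z ∈ zpowers ρ := by
  obtain ⟨γ, h1, -, h2⟩ := hρ.four
  exact h2 ▸ mul_mem h1 h1

theorem odd_y : ∃ m : ℕ, Odd m ∧ f.y ^ m = 1 := f.y3.imp' (fun k => 3 ^ k) fun _ e => ⟨Odd.pow (by decide), e⟩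

/-- The cube of `y` centralises `ρ`. -/
theorem cube (hρ : f.Cy f.s ρ) : f.y ^ 3 * ρ * (f.y ^ 3)⁻¹ = ρ := by
  set g := f.y ^ 3 with hg
  have gR : g ∈ normalizer (f.R : Set G) := pow_mem f.yR' 3
  have gL : ∀ m ∈ f.L, g * m * g⁻¹ = m := fun m hm => mul_inv_eq_iff_eq_mul.2 (f.y_cube m hm)
  have le : zpowers ρ ≤ f.R := zpowers_le.2 hρ.mem
  obtain ⟨γ, γ1, γL, γ2⟩ := hρ.four
  refine ind2 ((pR f).to_le le) (P := fun x => g * x * g⁻¹ = x) (by simp) (fun σ hσ h2 => ?_) ρ (mem_zpowers ρ)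
  set τ := g * σ * g⁻¹ with hτ
  have σR := le hσ
  have τR : τ ∈ f.R := cmem gR σR
  have ττ : τ * τ = σ * σ := by rw [← h2, hτ]; group
  have h3 : τ * σ⁻¹ * τ⁻¹ ∈ zpowers ρ := cmem (hρ.norm τR) (inv_mem hσ)
  have h4 : τ * σ⁻¹ * τ⁻¹ * σ * (τ * σ⁻¹ * τ⁻¹ * σ) = 1 := by
    calc _ = τ * σ⁻¹ * τ⁻¹ * (σ * (τ * σ⁻¹ * τ⁻¹)) * σ := by group
      _ = τ * (σ * σ)⁻¹ * τ⁻¹ * (σ * σ) := by rw [cz hσ h3]; group
      _ = 1 := by rw [← ττ]; group
  have h5 : σ⁻¹ * τ * (σ⁻¹ * τ) = τ * σ⁻¹ * τ⁻¹ * σ := by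
    calc _ = σ⁻¹ * (τ * σ⁻¹ * τ⁻¹) * (τ * τ) := by group
      _ = _ := by rw [cz (inv_mem hσ) h3, ττ]; group
  have κC : σ⁻¹ * τ ∈ f.C := by
    obtain ⟨u, hu, e⟩ := f.act_R σR
    have e1 : τ * f.a * τ⁻¹ = σ * f.a * σ⁻¹ := by
      calc τ * f.a * τ⁻¹ = g * (σ * (g⁻¹ * (g * f.a * g⁻¹) * g) * σ⁻¹) * g⁻¹ := by rw [gL _ (f.VL f.aV), hτ]; group
        _ = g * (σ * f.a * σ⁻¹) * g⁻¹ := by group
        _ = _ := by rw [e, gL _ (f.VL (mul_mem f.aV (f.WV hu)))]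
    refine f.mem_C.2 ⟨mul_mem (inv_mem σR) τR, ?_⟩
    calc σ⁻¹ * τ * f.a * (σ⁻¹ * τ)⁻¹ = σ⁻¹ * (τ * f.a * τ⁻¹) * σ := by group
      _ = _ := by rw [e1]; group
  have κγ : γ * (σ⁻¹ * τ) = σ⁻¹ * τ * γ := by
    have e1 : γ * τ = τ * γ := by
      calc γ * τ = g * γ * g⁻¹ * τ := by rw [gL γ γL]
        _ = g * (γ * σ) * g⁻¹ := by rw [hτ]; group
        _ = τ * (g * γ * g⁻¹) := by rw [cz γ1 hσ, hτ]; group
        _ = _ := by rw [gL γ γL]
    rw [← mul_assoc γ, cz γ1 (inv_mem hσ), mul_assoc σ⁻¹, e1, ← mul_assoc σ⁻¹]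
  have h6 := uniq (z_mem f hρ) f.zz f.z_ne (mul_mem h3 hσ) h4
  rw [← h5] at h6
  have κL : σ⁻¹ * τ ∈ f.L := by
    rcases h6 with e | e
    · exact f.VL (f.inv_C κC e)
    · obtain ⟨v, hv, e1⟩ := f.eq_of_sq γL κC κγ (e.trans γ2.symm)
      exact e1 ▸ mul_mem γL (f.VL hv)
  set κ := σ⁻¹ * τ with hκ
  have h7 : ∀ n : ℕ, g ^ n * σ * (g ^ n)⁻¹ = σ * κ ^ n := fun n => by
    induction n with
    | zero => simp
    | succ n ih =>
      calc g ^ (n + 1) * σ * (g ^ (n + 1))⁻¹ = g * (g ^ n * σ * (g ^ n)⁻¹) * g⁻¹ := by rw [pow_succ']; group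
        _ = τ * (g * κ ^ n * g⁻¹) := by rw [ih, hτ]; group
        _ = _ := by rw [gL _ (pow_mem κL n), pow_succ', ← mul_assoc σ, hκ, mul_inv_cancel_left]
  obtain ⟨m, hm, e⟩ := odd_y f
  have h8 := h7 m
  rw [hg, ← pow_mul, mul_comm 3, pow_mul, e] at h8
  have h9 : κ ^ m = 1 := by simpa using h8
  have h10 : κ ^ 4 = 1 := by
    rw [show κ ^ 4 = κ * κ * (κ * κ) by rw [← pow_two, ← pow_two, ← pow_mul]]
    rcases h6 with e | e <;> rw [e]
    exacts [mul_one 1, f.zz]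
  have h11 : κ = 1 := orderOf_eq_one_iff.1 (Nat.eq_one_of_dvd_coprimes
    ((Nat.coprime_two_right.2 hm).pow_right 2) (orderOf_dvd_of_pow_eq_one h9) (orderOf_dvd_of_pow_eq_one h10))
  exact (inv_mul_eq_one.1 h11).symm

/-- A cyclic normal subgroup of `R` with its involution. -/
structure Cn (σ u : G) : Prop where
  mem : σ ∈ f.R
  norm : f.R ≤ normalizer (zpowers σ : Set G)
  um : u ∈ zpowers σ
  uu : u * u = 1
  u1 : u ≠ 1

variable {f}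

theorem Cn.cj {σ u : G} (h : Cn f σ u) : Cn f (f.y * σ * f.y⁻¹) (f.y * u * f.y⁻¹) where
  mem := cmem f.yR' h.mem
  norm := fun r hr => mem_normalizer_of_conj_mem fun x hx => by
    obtain ⟨i, rfl⟩ := hx
    obtain ⟨j, hj⟩ := cmem (h.norm (cmem (inv_mem f.yR') hr)) (zpow_mem (mem_zpowers σ) i)
    refine ⟨j, ?_⟩
    simp only [conj_zpow] at hj ⊢
    rw [hj]; group
  um := by
    obtain ⟨i, hi⟩ := h.um
    exact ⟨i, by simp only [conj_zpow] at hi ⊢; rw [hi]⟩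
  uu := by rw [conj_mul, h.uu]; group
  u1 := fun e => h.u1 (conj_eq_one_iff.1 e)

theorem Cn.comm {σ u σ' u' : G} (h : Cn f σ u) (h' : Cn f σ' u') (ne : u ≠ u') : σ * σ' = σ' * σ := by
  have le : zpowers σ ⊓ zpowers σ' ≤ f.R := inf_le_left.trans (zpowers_le.2 h.mem)
  refine commutatorElement_eq_one_iff_mul_comm.1 (ind2 ((pR f).to_le le) (P := fun x => x = 1) rfl
    (fun x hx h2 => ?_) _ (mem_inf.2 ⟨?_, ?_⟩))
  · rcases uniq h.um h.uu h.u1 hx.1 h2 with e | e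
    · exact e
    · exact (uniq h'.um h'.uu h'.u1 hx.2 h2).resolve_right fun e' => ne (e.symm.trans e')
  · rw [show ⁅σ, σ'⁆ = σ * (σ' * σ⁻¹ * σ'⁻¹) by rw [commutatorElement_def]; group]
    exact mul_mem (mem_zpowers σ) (cmem (h.norm h'.mem) (inv_mem (mem_zpowers σ)))
  · exact mul_mem (cmem (h'.norm h.mem) (mem_zpowers σ')) (inv_mem (mem_zpowers σ'))

theorem norm_closure {A : Set G} {g : G} (h : ∀ x ∈ A, g * x * g⁻¹ ∈ closure A) :
    g ∈ normalizer (closure A : Set G) := mem_normalizer_of_conj_mem fun x hx => by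
  induction hx using closure_induction with
  | mem x hx => exact h x hx
  | one => simp
  | mul x y _ _ h1 h2 => rw [← conj_mul]; exact mul_mem h1 h2
  | inv x _ h1 => rw [← conj_inv]; exact inv_mem h1

/-- The torus. -/
theorem torus (h : f.Inv) (hρ : f.Cy f.s ρ) : ∃ T : Subgroup G, T ≤ f.R ∧ ρ ∈ T ∧ f.W ≤ T ∧
    (∀ a ∈ T, ∀ b ∈ T, a * b = b * a) ∧ f.R ≤ normalizer (T : Set G) ∧ f.y ∈ normalizer (T : Set G) ∧
    f.s ∈ normalizer (T : Set G) := by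
  have c0 : Cn f ρ f.z := ⟨hρ.mem, hρ.norm, z_mem f hρ, f.zz, f.z_ne⟩
  have c1 := c0.cj
  rw [f.yz] at c1
  have c2 := c1.cj
  rw [f.yw] at c2
  set ρ1 := f.y * ρ * f.y⁻¹ with e1
  set ρ2 := f.y * ρ1 * f.y⁻¹ with e2
  have e0 : f.y * ρ2 * f.y⁻¹ = ρ := by
    rw [e2, e1]
    conv_rhs => rw [← cube f hρ]
    simp only [pow_three, mul_inv_rev, mul_assoc]
  have n01 : f.z ≠ f.w := f.w_ne_z.symm
  have n02 : f.z ≠ f.z * f.w := fun e => f.w_ne (left_eq_mul.1 e)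
  have n12 : f.w ≠ f.z * f.w := fun e => f.z_ne (right_eq_mul.1 e)
  have m0 : ρ ∈ closure {ρ, ρ1, ρ2} := subset_closure (by simp)
  have m1 : ρ1 ∈ closure {ρ, ρ1, ρ2} := subset_closure (by simp)
  have m2 : ρ2 ∈ closure {ρ, ρ1, ρ2} := subset_closure (by simp)
  refine ⟨closure {ρ, ρ1, ρ2}, (closure_le _).2 ?_, m0, (closure_le _).2 ?_, fun a ha b hb => ?_,
    fun r hr => norm_closure ?_, norm_closure ?_, norm_closure ?_⟩
  · rintro _ (rfl | rfl | rfl)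
    exacts [c0.mem, c1.mem, c2.mem]
  · rintro _ (rfl | rfl)
    exacts [zpowers_le.2 m0 c0.um, zpowers_le.2 m1 c1.um]
  · have k : ∀ x ∈ ({ρ, ρ1, ρ2} : Set G), ∀ y ∈ ({ρ, ρ1, ρ2} : Set G), x * y = y * x := by
      rintro _ (rfl | rfl | rfl) _ (rfl | rfl | rfl)
      exacts [rfl, c0.comm c1 n01, c0.comm c2 n02, c1.comm c0 n01.symm, rfl, c1.comm c2 n12,
        c2.comm c0 n02.symm, c2.comm c1 n12.symm, rfl]
    have k1 : closure {ρ, ρ1, ρ2} ≤ centralizer {ρ, ρ1, ρ2} := (closure_le _).2 fun x hx y hy => k y hy x hx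
    exact (closure_le (centralizer {b})).2 (fun x hx _ e => by rw [e]; exact (k1 hb x hx).symm) ha b rfl |>.symm
  · rintro _ (rfl | rfl | rfl)
    exacts [zpowers_le.2 m0 (cmem (c0.norm hr) (mem_zpowers _)), zpowers_le.2 m1 (cmem (c1.norm hr) (mem_zpowers _)),
      zpowers_le.2 m2 (cmem (c2.norm hr) (mem_zpowers _))]
  · rintro _ (rfl | rfl | rfl)
    exacts [m1, m2, e0 ▸ m0]
  · have k : ∀ x : G, f.s * (f.y * x * f.y⁻¹) * f.s⁻¹ = f.y⁻¹ * (f.s * x * f.s⁻¹) * f.y := fun x => by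
      calc _ = f.s * f.y * f.s⁻¹ * (f.s * x * f.s⁻¹) * (f.s * f.y * f.s⁻¹)⁻¹ := by group
        _ = _ := by rw [h.inv, inv_inv]
    have k1 : f.s * ρ1 * f.s⁻¹ = ρ2⁻¹ := by rw [e1, k, hρ.inv, ← e0]; group
    rintro _ (rfl | rfl | rfl)
    · rw [hρ.inv]; exact inv_mem m0
    · rw [k1]; exact inv_mem m2
    · rw [show f.s * ρ2 * f.s⁻¹ = ρ1⁻¹ by rw [e2, k, k1, e2]; group]
      exact inv_mem m1

end OmB

open OmB

theorem Fr.tor (f : Fr G) (h : f.Inv) {ρ : G} (hρ : f.Cy f.s ρ) : f.a ∉ supp f.R f.y ∧ Rk 16 f.S := by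
  obtain ⟨T, TR, ρT, WT, ab, nR, ny, ns⟩ := torus h hρ
  have ρa : ρ * f.a ≠ f.a * ρ := fun e => f.z_ne (left_eq_mul.1 ((mul_inv_eq_iff_eq_mul.2 e).symm.trans hρ.act))
  have aT : f.a ∉ T := fun e => ρa (ab _ ρT _ e)
  have sT : ∀ r ∈ f.R, ⁅f.s, r⁆ ∈ T := fun r hr => zpowers_le.2 ρT (hρ.comm r hr)
  obtain ⟨m, hm, ym⟩ := odd_y f
  have sup : supp f.R f.y ≤ T := by
    refine TriA.supp_le' ny fun r hr => ?_
    have k1 : f.y * f.s * f.y⁻¹ ∈ TriA.stab T r := ⟨mul_mem (mul_mem ny ns) (inv_mem ny), by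
      rw [show ⁅f.y * f.s * f.y⁻¹, r⁆ = f.y * ⁅f.s, f.y⁻¹ * r * f.y⁻¹⁻¹⁆ * f.y⁻¹ by
        simp only [commutatorElement_def]; group]
      exact cmem ny (sT _ (cmem (inv_mem f.yR') hr))⟩
    have k2 := inv_mem (mul_mem (show f.s ∈ TriA.stab T r from ⟨ns, sT r hr⟩) k1)
    have e : f.s * (f.y * f.s * f.y⁻¹) = f.y⁻¹ * f.y⁻¹ := by
      calc _ = f.s * f.y * f.s⁻¹ * (f.s * f.s) * f.y⁻¹ := by group
        _ = _ := by rw [h.inv, h.sq, mul_one]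
    rw [e, mul_inv_rev, inv_inv] at k2
    exact (TriA.mem_of_sq hm (ym ▸ one_mem _) k2).2
  refine ⟨fun e => aT (sup e), fun K H hK hH hs => ?_⟩
  have od : Od f.R f.y := ⟨pR f, f.yR', m, hm, fun r _ => by rw [ym, one_mul, mul_one]⟩
  have dec : ∀ r ∈ f.R, ∃ t ∈ T, ∃ d ∈ fix f.R f.y, r = t * d := fun r hr => by
    obtain ⟨t, ht, d, hd, e⟩ := od.decomp hr
    exact ⟨t, sup ht, d, hd, e⟩
  have cD : ∀ d ∈ fix f.R f.y, d * ρ = ρ * d → d = 1 := fun d hd e =>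
    ind2 (A := fix f.R f.y ⊓ centralizer {ρ}) ((pR f).to_le (inf_le_left.trans inf_le_left)) (P := fun x => x = 1) rfl
      (fun x hx h2 => ((f.fix_y (mem_fix.1 hx.1).1 (mem_fix.1 hx.1).2).2 h2).resolve_right fun k =>
        ρa (k ▸ (mem_centralizer_singleton_iff.1 hx.2).symm)) d
      (mem_inf.2 ⟨hd, mem_centralizer_singleton_iff.2 e⟩)
  have nS : f.S ≤ normalizer (T : Set G) := fun g hg => by
    by_cases k : g ∈ f.R
    · exact nR k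
    · exact (mul_mem_cancel_left ns).1 (nR (f.mul_R f.sS hg f.s_not k))
  -- the quotient `S / T` is abelian
  have cT : ∀ t ∈ T, ∀ g ∈ f.S, g ∈ TriA.stab T t := fun t ht g hg =>
    ⟨nS hg, mul_mem (cmem (nS hg) ht) (inv_mem ht)⟩
  have cR : ∀ r ∈ f.R, ∀ r' ∈ f.R, ⁅r, r'⁆ ∈ T := fun r hr r' hr' => by
    obtain ⟨t, ht, d, hd, rfl⟩ := dec r hr
    obtain ⟨t', ht', d', hd', rfl⟩ := dec r' hr'
    have dR := (mem_fix.1 hd).1
    have dR' := (mem_fix.1 hd').1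
    have k : ⁅d', d⁆ = 1 := cD _ (mul_mem (mul_mem (mul_mem hd' hd) (inv_mem hd')) (inv_mem hd))
      (comm_cz (hρ.norm dR') (hρ.norm dR))
    have k1 : t' * d' ∈ TriA.stab T d := mul_mem ⟨nR (TR ht'), TriA.cinv.1 (cT t' ht' d (f.RS dR)).2⟩
      ⟨nR dR', k ▸ one_mem _⟩
    exact (mul_mem (show t ∈ TriA.stab T (t' * d') from ⟨nR (TR ht), TriA.cinv.1 (cT t ht _ (f.RS hr')).2⟩)
      ⟨nR dR, TriA.cinv.1 k1.2⟩).2
  have cS1 : ∀ r ∈ f.R, ∀ g ∈ f.S, g ∈ TriA.stab T r := fun r hr g hg => by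
    by_cases k : g ∈ f.R
    · exact ⟨nR k, cR g k r hr⟩
    · have k1 := f.mul_R f.sS hg f.s_not k
      exact (mul_mem_cancel_left (show f.s ∈ TriA.stab T r from ⟨ns, sT r hr⟩)).1 ⟨nR k1, cR _ k1 r hr⟩
  have cS : ∀ g ∈ f.S, ∀ g' ∈ f.S, ⁅g, g'⁆ ∈ T := fun g hg g' hg' => by
    by_cases k : g ∈ f.R
    · exact TriA.cinv.1 (cS1 g k g' hg').2
    by_cases k' : g' ∈ f.R
    · exact (cS1 g' k' g hg).2
    have k1 := f.mul_R hg' hg k' k
    exact ((mul_mem_cancel_left (show g' ∈ TriA.stab T g' from ⟨nS hg', by simp⟩)).1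
      ⟨nR k1, TriA.cinv.1 (cS1 _ k1 g' hg').2⟩).2
  have oR : ∀ r ∈ f.R, r * r ∈ T → r ∈ T ∨ f.a⁻¹ * r ∈ T := fun r hr h2 => by
    obtain ⟨t, ht, d, hd, rfl⟩ := dec r hr
    have dR := (mem_fix.1 hd).1
    have k : d * d ∈ T := by
      rw [show t * d * (t * d) = t * (d * t * d⁻¹) * (d * d) by group] at h2
      exact (mul_mem_cancel_left (mul_mem ht (cmem (nR dR) ht))).1 h2
    rcases (f.fix_y dR (mem_fix.1 hd).2).2 (cD _ (mul_mem hd hd) (ab _ k _ ρT)) with rfl | rfl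
    · exact .inl (by rwa [mul_one])
    · exact .inr (by simpa [mul_assoc] using cmem (inv_mem (nR dR)) ht)
  have iT : ∀ x ∈ T, x * x = 1 → x ∈ f.W := fun x hx x2 => by
    have inC : x ∈ f.C → x ∈ f.W := fun k => (f.mem_V.1 (f.inv_C k x2)).resolve_right fun ⟨u, hu, e⟩ =>
      aT ((mul_mem_cancel_right (WT hu)).1 (e ▸ hx))
    have hx' := cmem ny hx
    rcases f.n16.four (f.WV.trans f.VS) f.elW (f.RS (TR hx)) (f.RS (TR hx')) x2 (by rw [conj_mul, x2]; group)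
      (f.mem_R.1 (TR hx)).2 (f.mem_R.1 (TR hx')).2 (ab _ hx _ hx') with k | k | k
    · exact k
    · exact (mem_normalizer_iff.1 f.yW x).2 k
    obtain ⟨u, hu, e⟩ := f.act_R (TR hx)
    have e1 : f.y * x * f.y⁻¹ * f.a * (f.y * x * f.y⁻¹)⁻¹ = f.a * (f.y * u * f.y⁻¹) := by
      calc _ = f.y * (x * (f.y⁻¹ * (f.y * f.a * f.y⁻¹) * f.y) * x⁻¹) * f.y⁻¹ := by rw [f.ya]; group
        _ = f.y * (x * f.a * x⁻¹) * f.y⁻¹ := by group
        _ = _ := by rw [e, ← conj_mul, f.ya]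
    have e2 := (f.mem_C.1 (f.VC (f.WV k))).2
    have hu' := cmem f.yW hu
    have e3 : u * (f.y * u * f.y⁻¹) = 1 := by
      have : f.a * (u * (f.y * u * f.y⁻¹)) = f.a := by
        calc _ = x * f.a * x⁻¹ * (x * (f.y * u * f.y⁻¹) * x⁻¹) := by
              rw [e, mul_inv_eq_iff_eq_mul.2 ((f.mem_R.1 (TR hx)).2 _ hu'), mul_assoc f.a]
          _ = x * (f.a * (f.y * u * f.y⁻¹)) * x⁻¹ := by group
          _ = x * (f.y * x * f.y⁻¹) * f.a * (x * (f.y * x * f.y⁻¹))⁻¹ := by rw [← e1]; group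
          _ = _ := e2
      exact mul_eq_left.1 this
    refine inC (f.mem_C.2 ⟨TR hx, ?_⟩)
    rcases f.mem_W.1 hu with rfl | rfl | rfl | rfl
    · rwa [mul_one] at e
    · rw [f.yz] at e3
      exact (f.w_ne_z (mul_left_cancel (e3.trans f.zz.symm))).elim
    · rw [f.yw, f.commV f.zV f.wV, ← mul_assoc, f.ww, one_mul] at e3
      exact (f.z_ne e3).elim
    · rw [← conj_mul, f.yz, f.yw, mul_assoc, ← mul_assoc f.w, f.ww, one_mul, ← mul_assoc, f.zz, one_mul] at e3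
      exact (f.w_ne e3).elim
  have h1 := cnt (N := T) hK (fun a ha b hb => cS a (hH ha) b (hH hb)) hs ![1, f.a, f.s, f.s * f.a] fun x hx x2 => by
    by_cases k : x ∈ f.R
    · exact (oR x k x2).elim (fun e => ⟨0, by simpa using e⟩) fun e => ⟨1, e⟩
    have k1 := f.mul_R (inv_mem f.sS) (hH hx) (fun e => f.s_not (inv_mem_iff.1 e)) k
    have k2 : f.s⁻¹ * x * (f.s⁻¹ * x) ∈ T := by
      rw [show f.s⁻¹ * x * (f.s⁻¹ * x) = ⁅f.s⁻¹, x⁆ * (x * (f.s * f.s)⁻¹ * x) by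
        rw [commutatorElement_def]; group, h.sq, inv_one, mul_one]
      exact mul_mem (cS _ (inv_mem f.sS) _ (hH hx)) x2
    exact (oR _ k1 k2).elim (fun e => ⟨2, e⟩) fun e => ⟨3, by simpa [mul_assoc] using e⟩
  have h2 := cnt (H := H ⊓ T) (K := K ⊓ T) (N := ⊥) (inf_le_inf_right T hK)
    (fun a ha b hb => mem_bot.2 (commutatorElement_eq_one_iff_mul_comm.2 (ab a ha.2 b hb.2)))
    (fun x hx => mem_inf.2 ⟨hs x hx.1, mul_mem hx.2 hx.2⟩) ![1, f.z, f.w, f.z * f.w] fun x hx x2 => by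
      rcases f.mem_W.1 (iT x hx.2 (mem_bot.1 x2)) with rfl | rfl | rfl | rfl
      exacts [⟨0, by simp⟩, ⟨1, by simp⟩, ⟨2, by simp⟩, ⟨3, by simp⟩]
  rw [inf_bot_eq, inf_bot_eq, card_bot, mul_one, mul_one] at h2
  refine Nat.le_of_mul_le_mul_right (h1.trans ?_) (Nat.card_pos (α := (K ⊓ T : Subgroup G)))
  calc _ ≤ 4 * (Nat.card K * (4 * Nat.card (K ⊓ T : Subgroup G))) := by gcongr
    _ = _ := by ring

end Cfsg.Agent.R3
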