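import Mathlib
import Cfsg.Agent.R3.OmA
import Cfsg.Agent.R3.OmB
import Cfsg.Agent.R3.Dih
import Cfsg.Agent.GH.TriA

/-! An onto involution over `τ₀` commuting with `s` (piece R3-OmC). See `stubs/Cfsg/Agent/R3/PLAN.md`. -/

set_option autoImplicit false
set_option linter.unusedSectionVars false

namespace Cfsg.Agent.R3

open Cfsg.Agent.Inv.Fz Cfsg.Agent.GH Subgroup
open scoped commutatorElement

variable {G : Type*} [Group G] [Finite G]

namespace OmC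

open Cfsg.Agent.NE

section

variable (f : Fr0 G)

/-- The elements of `L` inverted by `t`. -/
def Iv (t : G) : Subgroup G where
  carrier := {m | m ∈ f.L ∧ t * m * t⁻¹ = m⁻¹}
  one_mem' := ⟨one_mem _, by simp⟩
  mul_mem' := fun {m k} hm hk => ⟨mul_mem hm.1 hk.1, by
    rw [conj_mul', hm.2, hk.2, f.commL hm.1 hk.1, mul_inv_rev]⟩
  inv_mem' := fun {m} hm => ⟨inv_mem hm.1, by rw [← conj_inv, hm.2]⟩

/-- The elements moved by `t` inside their coset of `⟨z⟩`. -/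
def Zf (t : G) : Subgroup G where
  carrier := {m | m ∈ f.S ∧ (t * m * t⁻¹ = m ∨ t * m * t⁻¹ = m * f.z)}
  one_mem' := ⟨one_mem _, Or.inl (by simp)⟩
  mul_mem' := fun {m k} hm hk => ⟨mul_mem hm.1 hk.1, by
    rw [conj_mul']
    have c := f.zc k hk.1
    rcases hm.2 with e | e <;> rcases hk.2 with e' | e' <;> rw [e, e']
    · exact Or.inl rfl
    · exact Or.inr (mul_assoc _ _ _).symm
    · exact Or.inr (by rw [mul_assoc, c, mul_assoc])
    · exact Or.inl (by rw [mul_assoc, ← c, sq_cancel f.zz])⟩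
  inv_mem' := fun {m} hm => ⟨inv_mem hm.1, by
    rw [← conj_inv]
    rcases hm.2 with e | e <;> rw [e]
    · exact Or.inl rfl
    · exact Or.inr (by rw [mul_inv_rev, inv_of_sq f.zz, f.zc _ (inv_mem hm.1)])⟩

/-- `R ⊓ C(B)`. -/
def R0 : Subgroup G := f.R ⊓ centralizer (f.B : Set G)

theorem lB : f.l ∈ f.B := subset_closure (by simp)
theorem bB : f.b ∈ f.B := subset_closure (by simp)
theorem lL : f.l ∈ f.L := f.BL (lB f)
theorem bL : f.b ∈ f.L := f.BL (bB f)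
theorem zW : f.z ∈ f.W := f.mem_W.2 (Or.inr (Or.inl rfl))
theorem wW : f.w ∈ f.W := f.mem_W.2 (Or.inr (Or.inr (Or.inl rfl)))
theorem LS : f.L ≤ f.S := f.LC.trans (f.CR.trans f.RS)

variable {f}

theorem W_Iv {t u : G} (ht : t ∈ f.R) (hu : u ∈ f.W) : u ∈ Iv f t :=
  ⟨f.VL (f.WV hu), by rw [conj_eq_of_comm ((f.mem_R.1 ht).2 u hu), inv_of_sq (f.elW.sq u hu)]⟩

theorem Iv_conj {t m g : G} (hg : g ∈ normalizer (f.L : Set G)) (hm : m ∈ Iv f t) :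
    g * m * g⁻¹ ∈ Iv f (g * t * g⁻¹) :=
  ⟨(conj_mem_norm hg).2 hm.1, by
    rw [conj_inv (a := m) (b := g), ← hm.2]
    group⟩

theorem Iv_conj' {t m g : G} (hg : g ∈ normalizer (f.L : Set G)) (hm : m ∈ Iv f (g * t * g⁻¹)) :
    g⁻¹ * m * g ∈ Iv f t := by
  have := Iv_conj (inv_mem hg) hm
  rwa [inv_inv, show g⁻¹ * (g * t * g⁻¹) * g = t by group] at this

theorem norm_B {g : G} (h1 : g * f.l * g⁻¹ ∈ f.B) (h2 : g * f.b * g⁻¹ ∈ f.B) :
    g ∈ normalizer (f.B : Set G) := mem_normalizer_of_conj_mem fun m hm =>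
  (closure_le (f.B.comap (MulAut.conj g).toMonoidHom)).2 (by
    rintro _ (rfl | rfl)
    · exact h1
    · exact h2) hm

theorem mem_R0 {r : G} : r ∈ R0 f ↔ r ∈ f.R ∧ Cz r f.B :=
  ⟨fun h => ⟨h.1, fun m hm => (mem_centralizer_iff.1 h.2 m hm).symm⟩,
    fun h => ⟨h.1, mem_centralizer_iff.2 fun m hm => (h.2 m hm).symm⟩⟩

theorem L_R0 : f.L ≤ R0 f := fun _ hm =>
  mem_R0.2 ⟨f.CR (f.LC hm), fun _ hk => f.commL hm (f.BL hk)⟩

theorem norm_R0 {g : G} (h1 : g ∈ normalizer (f.R : Set G)) (h2 : g ∈ normalizer (f.B : Set G)) :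
    g ∈ normalizer (R0 f : Set G) := mem_normalizer_of_conj_mem fun r hr =>
  mem_R0.2 ⟨(conj_mem_norm h1).2 hr.1, fun m hm => by
    have := conj_comm g ((mem_R0.1 hr).2 _ ((conj_mem_norm (inv_mem h2)).2 hm))
    rwa [show g * (g⁻¹ * m * g⁻¹⁻¹) * g⁻¹ = m by group] at this⟩

theorem mul_R0 {t u : G} (ht : t ∈ f.R) (hu : u ∈ f.R) (h1 : f.B ≤ Iv f t) (h2 : f.B ≤ Iv f u) :
    t * u ∈ R0 f := mem_R0.2 ⟨mul_mem ht hu, fun m hm => comm_of_conj_eq (by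
  rw [← conj_conj, (h2 hm).2, (h1 (inv_mem hm)).2, inv_inv])⟩

theorem norm_of_Iv {t : G} (h : f.B ≤ Iv f t) : t ∈ normalizer (f.B : Set G) :=
  mem_normalizer_of_conj_mem fun m hm => by
    rw [(h hm).2]
    exact inv_mem hm

theorem not_E {u x : G} (h : u * f.a * u⁻¹ = f.a * x) (h1 : x ≠ 1) (h2 : x ≠ f.z) : u ∉ f.E := fun k => by
  rcases (f.mem_E.1 k).2 with e | e <;> rw [h] at e
  · exact h1 (mul_eq_left.1 e)
  · exact h2 (mul_left_cancel e)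

theorem zw_ne : f.z * f.w ≠ 1 := fun e => f.w_ne_z (by
  rw [← sq_cancel f.zz f.w, e, mul_one])

theorem zw_ne_z : f.z * f.w ≠ f.z := fun e => f.w_ne (mul_eq_left.1 e)

theorem yiz : f.y⁻¹ * f.z * f.y = f.z * f.w := by
  have e : f.y * (f.z * f.w) * f.y⁻¹ = f.z := by
    rw [conj_mul', f.yz, f.yw, f.commV f.zV f.wV, sq_cancel f.ww]
  calc f.y⁻¹ * f.z * f.y = f.y⁻¹ * (f.y * (f.z * f.w) * f.y⁻¹) * f.y := by rw [e]
    _ = f.z * f.w := by group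

theorem yia : f.y⁻¹ * f.a * f.y = f.a := by
  calc f.y⁻¹ * f.a * f.y = f.y⁻¹ * (f.y * f.a * f.y⁻¹) * f.y := by rw [f.ya]
    _ = f.a := by group

theorem od : Od f.R f.y := by
  obtain ⟨k, hk⟩ := f.y3
  exact ⟨f.two.to_le f.RS, f.yR', 3 ^ k, Odd.pow (by decide), fun r _ => by rw [hk, one_mul, mul_one]⟩

/-- The last step: `a ∈ [R₀, y]`. -/
theorem mem_supp {v : G} (hv : v ∈ f.R) (v2 : v * v = 1) (h1 : f.B ≤ Iv f v)
    (h2 : f.B ≤ Iv f (f.y * v * f.y⁻¹)) : f.a ∈ supp (R0 f) f.y := by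
  by_contra ha
  have yn := norm_R0 f.yR' f.yB
  have vn := norm_R0 (f.nR (f.RS hv)) (norm_of_Iv h1)
  obtain ⟨d₀, hd₀, e₀⟩ := (od (f := f)).lift (L := R0 f) inf_le_left yn hv vn (by
    rw [commutatorElement_def, inv_of_sq v2]
    exact mul_R0 ((conj_mem_norm f.yR').2 hv) hv h2 h1)
  obtain ⟨t, ht, d₁, hd₁, e₁⟩ := ((od (f := f)).mono (K := R0 f) inf_le_left yn).decomp e₀
  have tR := supp_le yn ht
  have dR : d₁ * d₀⁻¹ ∈ f.R := mul_mem hd₁.1.1 (inv_mem hd₀.1)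
  have dy : d₁ * d₀⁻¹ ∈ centralizer {f.y} := mul_mem hd₁.2 (inv_mem hd₀.2)
  have ev : v = t * (d₁ * d₀⁻¹) := by
    rw [← mul_assoc, ← e₁, inv_of_sq v2, mul_inv_cancel_right]
  generalize d₁ * d₀⁻¹ = d at *
  have dn : d ∈ normalizer (R0 f : Set G) := by
    rw [show d = t⁻¹ * v by rw [ev]; group]
    exact mul_mem (inv_mem (le_normalizer tR)) vn
  have dy' : d * f.y = f.y * d := mem_centralizer_singleton_iff.1 dy
  have dT : d ∈ normalizer (supp (R0 f) f.y : Set G) := by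
    rw [← cj_eq_iff, cj_supp, cj_eq_iff.2 dn, conj_eq_of_comm dy']
  have dd : d * d ∈ supp (R0 f) f.y := by
    have e : d * d = (t * (d * t * d⁻¹))⁻¹ * (v * v) := by rw [ev]; group
    rw [e, v2, mul_one]
    exact inv_mem (mul_mem ht ((conj_mem_norm dT).2 ht))
  have d2 : d * d = 1 := by
    by_contra k
    obtain ⟨e, he, e1, e2⟩ := exists_pow_two f.two (f.RS (mul_mem dR dR)) k
    have eR : e ∈ f.R := zpowers_le.2 (mul_mem dR dR) he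
    have ey : e ∈ centralizer {f.y} := zpowers_le.2 (mul_mem dy dy) he
    rcases (f.fix_y eR (mem_centralizer_singleton_iff.1 ey).symm).2 e2 with k | k
    · exact e1 k
    · exact ha (k ▸ zpowers_le.2 dd he)
  have dL : d ∈ R0 f := by
    rcases (f.fix_y dR dy'.symm).2 d2 with k | k <;> rw [k]
    · exact one_mem _
    · exact L_R0 (f.VL f.aV)
  have vR : v ∈ R0 f := ev ▸ mul_mem tR dL
  have e := (h1 (lB f)).2
  rw [conj_eq_of_comm ((mem_R0.1 vR).2 _ (lB f))] at e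
  exact f.z_ne (by rw [← f.ll, ← mul_inv_cancel f.l, ← e])

end

section

variable {f : Fr G} {v γ : G}

/-- `v` inverts `γ`. -/
theorem inv_gam (hs : f.s * f.s = 1) (hv : v ∈ f.R) (v2 : v * v = 1) (va : v * f.a * v⁻¹ = f.a * f.z)
    (hc : v * f.s = f.s * v) (ho : f.Onto v) (γL : γ ∈ f.L) (γγ : γ * γ = f.z)
    (bs : f.b⁻¹ * f.s * f.b = f.s * γ) : v * γ * v⁻¹ = γ * f.z := by
  have vC : v ∉ f.C := fun k => f.z_ne (mul_eq_left.1 (va.symm.trans (f.mem_C.1 k).2))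
  obtain ⟨u, hu, vb⟩ := f.act_inv hv v2 vC (bL _)
  have uL := f.VL (f.WV hu)
  have su : f.s * u * f.s⁻¹ ∈ f.L := (conj_mem_norm (f.nL f.sS)).2 uL
  have e0 : γ = f.s * f.b⁻¹ * f.s⁻¹ * f.b := by
    rw [inv_of_sq hs, mul_assoc, mul_assoc, ← mul_assoc f.b⁻¹, bs, sq_cancel hs]
  have e : v * γ * v⁻¹ = γ * (f.s * u * f.s⁻¹ * u) := by
    calc v * γ * v⁻¹ = v * f.s * v⁻¹ * (v * f.b * v⁻¹)⁻¹ * (v * f.s * v⁻¹)⁻¹ * (v * f.b * v⁻¹) := by
          rw [e0]; group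
      _ = f.s * u⁻¹ * f.s⁻¹ * (f.s * f.b⁻¹ * f.s⁻¹ * f.b) * u := by
          rw [conj_eq_of_comm hc, vb]; group
      _ = γ * (f.s * u * f.s⁻¹ * u) := by
          rw [← e0, inv_of_sq (f.elW.sq u hu), f.commL su γL, mul_assoc]
  have sz : f.s * f.z * f.s⁻¹ = f.z := conj_eq_of_comm (f.zc _ f.sS).symm
  have zw := f.commV f.zV f.wV
  have key : v * γ * v⁻¹ = γ → (u = 1 ∨ u = f.z) → False := fun k1 k2 => by
    have vE : v ∈ f.E := f.mem_E.2 ⟨f.RS hv, Or.inr va⟩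
    have VZ : f.V ≤ Zf f.toFr0 v := fun x hx => ⟨f.VS hx, (f.mem_E'.1 vE).2 x hx⟩
    obtain ⟨x, hx, e1⟩ := f.eq_of_sq (lL _) (f.LC γL) (f.commL (lL _) γL) (γγ.trans f.ll.symm)
    have LZ : f.L ≤ Zf f.toFr0 v := (closure_le _).2 (by
      rintro _ (rfl | rfl | rfl)
      · rw [show f.l = γ * x⁻¹ by rw [e1, mul_inv_cancel_right]]
        exact mul_mem ⟨LS _ γL, Or.inl k1⟩ (inv_mem (VZ hx))
      · exact ⟨LS _ (bL _), k2.imp (fun k => by rw [vb, k, mul_one]) fun k => by rw [vb, k]⟩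
      · exact VZ f.aV)
    obtain ⟨m, hm, e2⟩ := ho _ (wW _)
    rcases (LZ hm).2 with k | k <;> rw [e2] at k
    · exact f.w_ne (mul_eq_left.1 k)
    · exact f.w_ne_z (mul_left_cancel k)
  rcases f.mem_W.1 hu with k | k | k | k
  · exact (key (by rw [e, k]; simp) (Or.inl k)).elim
  · exact (key (by rw [e, k, sz, f.zz, mul_one]) (Or.inr k)).elim
  · rw [e, k, f.sw, mul_assoc f.w, zw, sq_cancel f.ww]
  · rw [e, k, conj_mul', sz, f.sw, ← zw, sq_cancel f.zz, zw, sq_cancel f.ww]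

/-- No involution of `R` outside `E` inverts an element of `γ a W`. -/
theorem no_good (hs : f.s * f.s = 1) (h1 : f.H1 f.s) (γL : γ ∈ f.L) (γγ : γ * γ = f.z)
    (bs : f.b⁻¹ * f.s * f.b = f.s * γ) {u x : G} (hu : u ∈ f.R) (uE : u ∉ f.E) (u2 : u * u = 1)
    (hx : x ∈ f.V) (hi : γ * x ∈ Iv f.toFr0 u) : x ∈ f.W := by
  have xL := f.VL hx
  obtain ⟨-, k, kL, -, kW, -, ⟨g, hg, e⟩, -⟩ := f.dih f.sS f.s_not hs hu uE u2 hi.1 (by
    rw [mul_assoc, ← mul_assoc x, f.commL xL γL, mul_assoc, f.el.sq x hx, mul_one, γγ]) hi.2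
  have e1 : f.b * g * f.s * (f.b * g)⁻¹ = f.s * (k * (γ * x)⁻¹ * x) := by
    have e2 : f.b * f.s * f.b⁻¹ = f.s * γ⁻¹ := by
      calc f.b * f.s * f.b⁻¹ = f.b * (f.s * γ) * (γ⁻¹ * f.b⁻¹) := by group
        _ = f.s * (f.b * γ⁻¹ * f.b⁻¹) := by rw [← bs]; group
        _ = f.s * γ⁻¹ := by rw [conj_eq_of_comm (f.commL (bL _) (inv_mem γL))]
    rw [← conj_conj, e, conj_mul', e2, conj_eq_of_comm (f.commL (bL _) kL), f.commL γL xL,
      mul_inv_rev, mul_assoc k, inv_mul_cancel_right, mul_assoc, f.commL (inv_mem γL) kL]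
  have e3 := h1 _ (mul_mem (LS _ (bL _)) hg) _ (mul_mem (f.WV kW) hx) e1
  refine (mul_mem_cancel_left kW).1 ?_
  rcases e3 with k | k <;> rw [k]
  · exact one_mem _
  · exact zW _

/-- The subframe on `(R ⊓ C(B)) ⟨s⟩`. -/
theorem sub_frame (h : f.Inv) (h1 : f.H1 f.s) (sB : f.s ∈ normalizer (f.B : Set G)) {r₀ : G}
    (r0 : r₀ ∈ R0 f.toFr0) (ra : r₀ * f.a * r₀⁻¹ = f.a * f.z) : f.a ∉ supp (R0 f.toFr0) f.y := by
  have sn := norm_R0 (f.nR f.sS) sB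
  have ms : ∀ g, g ∈ ext (R0 f.toFr0) f.s ↔ g ∈ R0 f.toFr0 ∨ f.s * g ∈ R0 f.toFr0 := fun g =>
    mem_ext sn (h.sq ▸ one_mem _)
  have le : ext (R0 f.toFr0) f.s ≤ f.S := ext_le.2 ⟨inf_le_left.trans f.RS, f.sS⟩
  have hR : ext (R0 f.toFr0) f.s ⊓ centralizer {f.w} = R0 f.toFr0 := le_antisymm
    (fun g hg => ((ms g).1 hg.1).resolve_right fun k =>
      f.s_not ((mul_mem_cancel_right (show g ∈ f.R from ⟨le hg.1, hg.2⟩)).1 k.1))
    (fun g hg => ⟨le_ext _ _ hg, hg.1.2⟩)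
  let f₀ : Fr G :=
    { f with
      S := ext (R0 f.toFr0) f.s
      two := f.two.to_le le
      n16 := f.n16.mono le
      VS := (f.VL.trans L_R0).trans (le_ext _ _)
      nV := le.trans f.nV
      zc := fun g hg => f.zc g (le hg)
      nW := fun g hg => f.nW g (le hg)
      yR := by rw [hR]; exact norm_R0 f.yR' f.yB
      cov := ⟨r₀, le_ext _ _ r0, (f.mem_R.1 r0.1).2 _ (wW _), ra⟩
      lS := le_ext _ _ (L_R0 (lL _))
      lV := fun g hg => f.lV g (le hg)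
      sS := self_mem_ext _ _
      sy := by rw [h.inv, inv_mul_cancel]; exact one_mem _ }
  have hR' : f₀.R = R0 f.toFr0 := hR
  have H2 : f₀.H2 f₀.s := fun r hr hE k => by
    rw [hR'] at hr
    have rE : r ∉ f.E := fun e => hE (f₀.mem_E.2 ⟨le_ext _ _ hr, (f.mem_E.1 e).2⟩)
    obtain ⟨u, hu, ru⟩ := f.act_R hr.1
    have rW := (f.mem_R.1 hr.1).2
    change (f.s * (r * f.s * r⁻¹)) ^ 4 = 1 at k
    have e0 : f.s * (r * f.s * r⁻¹) = f.s * r * f.s⁻¹ * r⁻¹ := by rw [inv_of_sq h.sq]; group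
    have ρ0 : f.s * (r * f.s * r⁻¹) ∈ R0 f.toFr0 :=
      e0 ▸ mul_mem ((conj_mem_norm sn).2 hr) (inv_mem hr)
    have ri : r⁻¹ * f.a * r⁻¹⁻¹ = f.a * u := by
      calc r⁻¹ * f.a * r⁻¹⁻¹ = r⁻¹ * (f.a * u) * (u * r) := by
            rw [mul_assoc _ _ (u * r), mul_assoc f.a, sq_cancel (f.elW.sq u hu)]; group
        _ = r⁻¹ * (r * f.a * r⁻¹) * (r * u) := by rw [ru, rW u hu]
        _ = f.a * u := by group
    have su : f.s * u * f.s⁻¹ = u * f.z := by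
      have sz : f.s * f.z * f.s⁻¹ = f.z := conj_eq_of_comm (f.zc _ f.sS).symm
      rcases f.mem_W.1 hu with e | e | e | e
      · exact (rE (f.mem_E.2 ⟨f.RS hr.1, Or.inl (by rw [ru, e, mul_one])⟩)).elim
      · exact (rE (f.mem_E.2 ⟨f.RS hr.1, Or.inr (by rw [ru, e])⟩)).elim
      · rw [e, f.sw]
      · rw [e, conj_mul', sz, f.sw, mul_assoc]
    have uz : u * f.z ∈ f.W := mul_mem hu (zW _)
    have ρa : f.s * (r * f.s * r⁻¹) * f.a * (f.s * (r * f.s * r⁻¹))⁻¹ = f.a * f.z := by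
      have b1 : f.s * (f.a * u) * f.s⁻¹ = f.a * (u * f.z) := by rw [conj_mul', f.sa, su]
      have b2 : r * (f.a * (u * f.z)) * r⁻¹ = f.a * f.z := by
        rw [conj_mul', ru, conj_eq_of_comm (rW _ uz), mul_assoc f.a, sq_cancel (f.elW.sq u hu)]
      rw [← conj_conj, ← conj_conj, ← conj_conj, ri, b1, b2, conj_mul', f.sa,
        conj_eq_of_comm (f.zc _ f.sS).symm]
    have ρi : f.s * (f.s * (r * f.s * r⁻¹)) * f.s⁻¹ = (f.s * (r * f.s * r⁻¹))⁻¹ :=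
      (inverts_mul h.sq (by rw [← conj_mul', h.sq]; group)).1
    generalize f.s * (r * f.s * r⁻¹) = ρ at *
    have ρC : ρ ∉ f.C := fun e => f.z_ne (mul_eq_left.1 (ρa.symm.trans (f.mem_C.1 e).2))
    have ρV : ρ * ρ ∈ f.V := f.inv_C (f.sq_R ρ0.1) (by
      rw [← k, show 4 = 2 + 2 from rfl, pow_add, pow_two])
    rcases h1 ρ⁻¹ (inv_mem (f.RS ρ0.1)) _ ρV (by rw [inv_inv, ← ρi]; group) with e | e
    · exact f.noB ρ0.1 ρC e (mem_R0.1 ρ0).2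
    · have aR := L_R0 (f := f.toFr0) (f.VL f.aV)
      refine f.noB (mul_mem ρ0 aR).1 (fun e' => ρC ((mul_mem_cancel_right (f.VC f.aV)).1 e')) ?_
        (mem_R0.1 (mul_mem ρ0 aR)).2
      calc ρ * f.a * (ρ * f.a) = ρ * f.a * ρ⁻¹ * (ρ * ρ) * f.a := by group
        _ = 1 := by rw [ρa, e, mul_assoc f.a, f.zz, mul_one, f.aa]
  obtain ⟨ρ, hρ⟩ := f₀.cyc h.sq (fun g hg => h1 g (le hg)) H2
  have := (f₀.tor ⟨h.sq, h.inv⟩ hρ).1
  rwa [hR'] at this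

end

end OmC

open OmC Cfsg.Agent.NE in
theorem Fr.no_onto (f : Fr G) (h : f.Inv) (h1 : f.H1 f.s) {v : G} (hv : v ∈ f.R) (v2 : v * v = 1)
    (va : v * f.a * v⁻¹ = f.a * f.z) (hc : v * f.s = f.s * v) (ho : f.Onto v) : False := by
  obtain ⟨-, -, sm, -, γ, γL, γγ, sγ, bs⟩ := f.out f.sS f.s_not h.sq
  have vγ := inv_gam h.sq hv v2 va hc ho γL γγ bs
  have aL := f.VL f.aV
  have zL := f.VL f.zV
  have γv : γ ∈ Iv f.toFr0 v := ⟨γL, by
    rw [vγ, eq_inv_iff_mul_eq_one, mul_assoc, f.commL zL γL, ← mul_assoc, γγ, f.zz]⟩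
  have root : ∀ u ∈ f.W, ∃ m ∈ Iv f.toFr0 v, m * m = u := fun u hu => by
    obtain ⟨m, m1, m2, m3⟩ := f.inv_root hv v2 va ho (mul_mem γL aL) (by
      rw [mul_assoc, ← mul_assoc f.a, f.commL aL γL, mul_assoc, f.aa, mul_one, γγ])
      (comm_of_conj_eq (by
        rw [conj_mul', vγ, va, mul_assoc, ← f.commL zL aL, sq_cancel f.zz])) hu
    exact ⟨m, ⟨m1, m3⟩, m2⟩
  have ng := @no_good _ _ _ f γ h.sq h1 γL γγ bs
  have cj : ∀ g ∈ f.M, g ∈ normalizer (f.R : Set G) → g ∈ normalizer (f.L : Set G) →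
      g ∈ normalizer (f.W : Set G) → g * v * g⁻¹ ∉ f.E → γ ∈ Iv f.toFr0 (g * v * g⁻¹) := by
    intro g _ gR gL gW gE
    obtain ⟨m, m1, m2⟩ := root _ ((conj_mem_norm (inv_mem gW)).2 (zW _))
    have m3 := Iv_conj gL m1
    obtain ⟨x, hx, e⟩ := f.eq_of_sq γL (f.LC m3.1) (f.commL γL m3.1) (by
      rw [← conj_mul', m2, γγ]; group)
    rw [e] at m3
    have r1 := (conj_mem_norm gR).2 hv
    exact (mul_mem_cancel_right (W_Iv r1 (ng r1 gE (by rw [← conj_mul', v2]; group) hx m3))).1 m3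
  have a1 : f.y * v * f.y⁻¹ * f.a * (f.y * v * f.y⁻¹)⁻¹ = f.a * f.w := by
    calc f.y * v * f.y⁻¹ * f.a * (f.y * v * f.y⁻¹)⁻¹ =
          f.y * (v * (f.y⁻¹ * f.a * f.y) * v⁻¹) * f.y⁻¹ := by group
      _ = f.a * f.w := by rw [yia, va, conj_mul', f.ya, f.yz]
  have a2 : f.y⁻¹ * v * f.y⁻¹⁻¹ * f.a * (f.y⁻¹ * v * f.y⁻¹⁻¹)⁻¹ = f.a * (f.z * f.w) := by
    calc f.y⁻¹ * v * f.y⁻¹⁻¹ * f.a * (f.y⁻¹ * v * f.y⁻¹⁻¹)⁻¹ =
          f.y⁻¹ * (v * (f.y * f.a * f.y⁻¹) * v⁻¹) * f.y := by group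
      _ = f.y⁻¹ * f.a * f.y * (f.y⁻¹ * f.z * f.y) := by rw [f.ya, va]; group
      _ = f.a * (f.z * f.w) := by rw [yia, yiz]
  have n1 := not_E a1 f.w_ne f.w_ne_z
  have r1 := (conj_mem_norm f.yR').2 hv
  have r2 := (conj_mem_norm (inv_mem f.yR')).2 hv
  have g1 := Iv_conj' f.yL (cj _ f.yM f.yR' f.yL f.yW n1)
  have g2 := Iv_conj' (inv_mem f.yL) (cj _ (inv_mem f.yM) (inv_mem f.yR') (inv_mem f.yL)
    (inv_mem f.yW) (not_E a2 zw_ne zw_ne_z))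
  rw [inv_inv] at g2
  have γB : γ ∈ f.B := by
    rcases f.norm_y γL with k | k
    · exact k.1
    · have := (mul_mem (mul_mem γv g2) g1).2
      rw [k.2, va, inv_of_sq f.aa] at this
      exact (f.z_ne (mul_eq_left.1 this)).elim
  obtain ⟨x, hx, eγ⟩ : ∃ x ∈ f.W, γ = f.l * x := by
    obtain ⟨x, hx, e⟩ := f.eq_of_sq (lL _) (f.LC γL) (f.commL (lL _) γL) (γγ.trans f.ll.symm)
    refine ⟨x, ?_, e⟩
    rcases f.mem_V.1 hx with k | ⟨u, hu, k⟩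
    · exact k
    · rw [e, k] at γB
      exact (f.a_notB ((mul_mem_cancel_right (f.WB hu)).1 ((mul_mem_cancel_left (lB _)).1 γB))).elim
  have Bv : f.B ≤ Iv f.toFr0 v := (closure_le _).2 (by
    rintro _ (rfl | rfl)
    · exact (mul_mem_cancel_right (W_Iv hv hx)).1 (eγ ▸ γv)
    · rw [eγ, conj_mul'] at g2
      exact (mul_mem_cancel_right (W_Iv hv ((conj_mem_norm f.yW).2 hx))).1 g2)
  have Bg : ∀ g ∈ normalizer (f.B : Set G), g ∈ normalizer (f.L : Set G) →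
      f.B ≤ Iv f.toFr0 (g * v * g⁻¹) := fun g gB gL m hm => by
    have := Iv_conj gL (Bv ((conj_mem_norm (inv_mem gB)).2 hm))
    rwa [show g * (g⁻¹ * m * g⁻¹⁻¹) * g⁻¹ = m by group] at this
  have B1 := Bg _ f.yB f.yL
  have B2 := Bg _ (inv_mem f.yB) (inv_mem f.yL)
  have sB : f.s ∈ normalizer (f.B : Set G) := by
    refine norm_B ?_ ?_
    · rcases sm _ (lL _) f.ll with k | k <;> rw [k]
      · exact lB _
      · exact mul_mem (lB _) (f.WB (zW _))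
    · have e : f.s * f.b * f.s⁻¹ = f.b * (f.s * γ * f.s⁻¹) := by rw [← bs]; group
      rw [e, sγ]
      exact mul_mem (bB _) (inv_mem γB)
  refine sub_frame h h1 sB (mul_R0 r1 r2 B1 B2) ?_ (mem_supp hv v2 Bv B1)
  rw [← conj_conj, a2, conj_mul', a1, conj_eq_of_comm ((f.mem_R.1 r1).2 _ (mul_mem (zW _) (wW _))),
    mul_assoc, f.commV f.zV f.wV, sq_cancel f.ww]

end Cfsg.Agent.R3
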