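import Mathlib
import Cfsg.Agent.R3.OmC

/-! Every involution outside `R` is fused to its product with `a` (piece R3-OmD). See `stubs/Cfsg/Agent/R3/PLAN.md`. -/

set_option autoImplicit false
set_option linter.unusedSectionVars false

namespace Cfsg.Agent.R3

open Cfsg.Agent.Inv.Fz Cfsg.Agent.GH Subgroup
open scoped commutatorElement

variable {G : Type*} [Group G] [Finite G]

namespace OmD

theorem four (k : ℕ) : ∀ g : G, g ^ 2 ^ k = 1 → g * g ≠ 1 →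
    ∃ n : ℕ, g ^ n * g ^ n ≠ 1 ∧ g ^ n * g ^ n * (g ^ n * g ^ n) = 1 := by
  induction k with
  | zero => intro g h h'; exact absurd (by rw [show g = 1 by simpa using h, mul_one]) h'
  | succ k ih =>
    intro g h h'
    by_cases e : g * g * (g * g) = 1
    · exact ⟨1, by simpa using h', by simpa using e⟩
    · obtain ⟨n, h1, h2⟩ := ih (g * g) (by rw [← pow_two, ← pow_mul, ← pow_succ', h]) e
      exact ⟨2 * n, by rwa [pow_mul, pow_two], by rwa [pow_mul, pow_two]⟩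

theorem cm (g x y : G) : g * (x * y) * g⁻¹ = g * x * g⁻¹ * (g * y * g⁻¹) := conj_mul.symm

variable (f : Fr G)

theorem zW : f.z ∈ f.W := f.mem_W.2 (.inr (.inl rfl))

theorem wW : f.w ∈ f.W := f.mem_W.2 (.inr (.inr (.inl rfl)))

theorem fixR {r u : G} (hr : r ∈ f.R) (hu : u ∈ f.W) : r * u * r⁻¹ = u := by
  rw [(f.mem_R.1 hr).2 _ hu, mul_inv_cancel_right]

theorem fixz {g : G} (hg : g ∈ f.S) : g * f.z * g⁻¹ = f.z := by rw [← f.zc g hg, mul_inv_cancel_right]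

theorem zw1 : f.z * f.w ≠ 1 := fun k => f.w_ne_z (by rw [← mul_one f.z, ← f.ww, ← mul_assoc, k, one_mul])

theorem zwz : f.z * f.w ≠ f.z := fun k => f.w_ne (by simpa using k)

theorem s_c {c : G} (hc : c = f.w ∨ c = f.z * f.w) : f.s * c * f.s⁻¹ = c * f.z := by
  rcases hc with rfl | rfl
  · exact f.sw
  · rw [← conj_mul, fixz f f.sS, f.sw, mul_assoc]

theorem cW {c : G} (hc : c = f.w ∨ c = f.z * f.w) : c ∈ f.W ∧ c ≠ 1 ∧ c ≠ f.z := by
  rcases hc with rfl | rfl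
  exacts [⟨wW f, f.w_ne, f.w_ne_z⟩, ⟨mul_mem (zW f) (wW f), zw1 f, zwz f⟩]

/-- An element of `V` fixed by `s` and by an element of `R` outside `C`. -/
theorem fixV {x r c : G} (hx : x ∈ f.V) (hr : r ∈ f.R) (ra : r * f.a * r⁻¹ = f.a * c) (c1 : c ≠ 1)
    (h1 : r * x * r⁻¹ = x) (h2 : f.s * x * f.s⁻¹ = x) : x = 1 ∨ x = f.z := by
  rcases f.mem_V.1 hx with k | ⟨u, hu, rfl⟩
  · rcases f.mem_W.1 k with k | k | k | k
    exacts [.inl k, .inr k, absurd (by simpa [s_c f (.inl k)] using h2) f.z_ne,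
      absurd (by simpa [s_c f (.inr k)] using h2) f.z_ne]
  · rw [← conj_mul, ra, fixR f hr hu] at h1
    exact absurd (by simpa using h1) c1

/-- The product of `s` with its conjugate under an element over `τ₁` or `τ₂`. -/
theorem rho (hs : f.s * f.s = 1) {r c : G} (hr : r ∈ f.R) (hc : c = f.w ∨ c = f.z * f.w)
    (ra : r * f.a * r⁻¹ = f.a * c) : f.s * (r * f.s * r⁻¹) ∈ f.R ∧
    f.s * (r * f.s * r⁻¹) * f.a * (f.s * (r * f.s * r⁻¹))⁻¹ = f.a * f.z ∧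
    f.s * (f.s * (r * f.s * r⁻¹)) * f.s⁻¹ = (f.s * (r * f.s * r⁻¹))⁻¹ := by
  have rS := f.RS hr
  obtain ⟨c0, -, -⟩ := cW f hc
  refine ⟨f.mul_R f.sS (mul_mem (mul_mem rS f.sS) (inv_mem rS)) f.s_not fun k => f.s_not
    ((mem_normalizer_iff.1 (f.nR rS) _).2 k), ?_, ?_⟩
  · have e : r⁻¹ * f.a * r = f.a * c := by
      have : r * (f.a * c) * r⁻¹ = f.a := by
        rw [← conj_mul, ra, fixR f hr c0, mul_assoc, f.elW.sq c c0, mul_one]
      nth_rewrite 1 [← this]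
      group
    calc _ = f.s * (r * (f.s * (r⁻¹ * f.a * r) * f.s⁻¹) * r⁻¹) * f.s⁻¹ := by group
      _ = _ := by
        rw [e, cm _ f.a c, f.sa, s_c f hc, cm _ f.a, ra, fixR f hr (mul_mem c0 (zW f)),
          mul_assoc f.a, ← mul_assoc c, f.elW.sq c c0, one_mul, ← conj_mul, f.sa, fixz f f.sS]
  · rw [← mul_assoc, hs, mul_inv_rev, conj_inv, inv_eq_of_mul_eq_one_right hs, one_mul]

/-- Correcting an element of order four to an involution. -/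
theorem corr {ρ : G} (hρ : ρ ∈ f.R) (ρa : ρ * f.a * ρ⁻¹ = f.a * f.z) (ρs : f.s * ρ * f.s⁻¹ = ρ⁻¹)
    (ρ2 : ρ * ρ = f.z) : ∃ v ∈ f.R, v * v = 1 ∧ v * f.a * v⁻¹ = f.a * f.z ∧ v * f.s = f.s * v ∧
      ∀ m ∈ f.L, v * m * v⁻¹ = ρ * m * ρ⁻¹ := by
  have aw := mul_mem f.aV f.wV
  have act : ∀ m ∈ f.L, ρ * (f.a * f.w) * m * (ρ * (f.a * f.w))⁻¹ = ρ * m * ρ⁻¹ := fun m hm => by
    rw [mul_assoc ρ, f.commL (f.VL aw) hm]; group
  have zc := f.zc ρ (f.RS hρ)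
  have e : ρ * (f.a * f.w) = f.z * (f.a * f.w) * ρ := by
    rw [← mul_inv_eq_iff_eq_mul, ← conj_mul, ρa, fixR f hρ (wW f), f.commV f.aV f.zV, mul_assoc]
  refine ⟨ρ * (f.a * f.w), mul_mem hρ (f.CR (f.VC aw)), ?_, by rw [act _ (f.VL f.aV), ρa], ?_, act⟩
  · nth_rewrite 1 [e]
    rw [mul_assoc, ← mul_assoc ρ, ρ2, f.el.sq _ (mul_mem f.zV aw)]
  · rw [eq_comm, ← mul_inv_eq_iff_eq_mul, ← conj_mul, ← conj_mul, ρs, f.sa, f.sw, inv_mul_eq_iff_eq_mul,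
      ← mul_assoc ρ, ρ2, f.commV f.zV aw, mul_assoc]

theorem notC {r c : G} (ra : r * f.a * r⁻¹ = f.a * c) (c1 : c ≠ 1) : r ∉ f.C := fun k =>
  c1 (by simpa [ra] using (f.mem_C.1 k).2)

theorem caseA (hs : f.s * f.s = 1) {u c γ : G} (hu : u ∈ f.R) (u2 : u * u = 1)
    (hc : c = f.w ∨ c = f.z * f.w) (ua : u * f.a * u⁻¹ = f.a * c) (hf : f.Fix u) (hγ : γ ∈ f.L)
    (sγ : f.s * γ * f.s⁻¹ = γ⁻¹) (bγ : f.b⁻¹ * f.s * f.b = f.s * γ) (ne : u * γ * u⁻¹ ≠ γ) :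
    ∃ v' ∈ f.R, v' * v' = 1 ∧ v' * f.a * v'⁻¹ = f.a * f.z ∧ v' * f.s = f.s * v' ∧ f.Onto v' := by
  obtain ⟨c0, c1, c2⟩ := cW f hc
  obtain ⟨hρ, ρa, ρs⟩ := rho f hs hu hc ua
  have ui : u⁻¹ = u := inv_eq_of_mul_eq_one_right u2
  have si : f.s⁻¹ = f.s := inv_eq_of_mul_eq_one_right hs
  have act : ∀ x, f.s * (u * f.s * u⁻¹) * x * (f.s * (u * f.s * u⁻¹))⁻¹ =
      f.s * (u * (f.s * (u * x * u⁻¹) * f.s⁻¹) * u⁻¹) * f.s⁻¹ := fun x => by
    simp only [mul_inv_rev, ui, mul_assoc]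
  have ρu : u * (f.s * (u * f.s * u⁻¹)) * u⁻¹ = (f.s * (u * f.s * u⁻¹))⁻¹ := by
    simp only [mul_inv_rev, ui, si, mul_assoc, u2, mul_one]
  generalize f.s * (u * f.s * u⁻¹) = ρ at hρ ρa ρs act ρu
  have af := fun m hm => f.act_fix (m := m) hu u2 hf ua hm
  have h1 : ρ * ρ ≠ 1 := fun k => by
    rcases f.n16.four (f.WV.trans f.VS) f.elW (f.RS hu) (f.RS hρ) u2 k (f.mem_R.1 hu).2 (f.mem_R.1 hρ).2
      (by rw [← mul_inv_eq_iff_eq_mul, ρu, inv_eq_of_mul_eq_one_right k]) with e | e | e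
    · exact notC f ua c1 (f.VC (f.WV e))
    · exact notC f ρa f.z_ne (f.VC (f.WV e))
    · refine notC f (c := c * f.z) ?_ (fun e' => c2 ?_) (f.VC (f.WV e))
      · rw [mul_inv_rev, ← mul_assoc, mul_assoc u, mul_assoc u, ρa, ← conj_mul, ua, fixR f hu (zW f),
          mul_assoc]
      · rw [← mul_one c, ← f.zz, ← mul_assoc, e', one_mul]
  have inz : ∀ n : ℕ, ρ ^ n ∈ f.C → ρ ^ n * ρ ^ n = 1 → ρ ^ n = 1 ∨ ρ ^ n = f.z := fun n k1 k2 =>
    fixV f (f.inv_C k1 k2) hu ua c1 (by rw [← conj_pow, ρu, inv_pow, inv_eq_of_mul_eq_one_right k2])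
      (by rw [← conj_pow, ρs, inv_pow, inv_eq_of_mul_eq_one_right k2])
  have h4 : ρ * ρ * (ρ * ρ) = 1 := by_contra fun k => by
    obtain ⟨j, hj⟩ := f.two ⟨ρ * ρ, f.RS (mul_mem hρ hρ)⟩
    obtain ⟨n, n1, n2⟩ := four j (ρ * ρ) (congrArg Subtype.val hj) k
    have hC : (ρ * ρ) ^ n ∈ f.C := pow_mem (f.sq_R hρ) n
    have e : (ρ * ρ) ^ n * (ρ * ρ) ^ n = ρ ^ (2 * n + 2 * n) := by rw [pow_add, pow_mul, pow_two]
    have hz : (ρ * ρ) ^ n * (ρ * ρ) ^ n = f.z := by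
      rw [e] at n1 n2 ⊢
      exact (inz _ (e ▸ mul_mem hC hC) n2).resolve_left n1
    obtain ⟨m, hm, m2, um⟩ := hf _ (zW f)
    have um' : u * m * u⁻¹ = m := by rw [um, mul_inv_cancel_right]
    have ρm : ρ * m * ρ⁻¹ = m := by
      rw [act, um']
      rcases (f.out f.sS f.s_not hs).2.2.1 m hm m2 with k | k
      · rw [k, um', k]
      · rw [k, cm _ m, um', fixR f hu (zW f), ← conj_mul, k, fixz f f.sS, mul_assoc, f.zz, mul_one]
    have cm : Commute m ρ := (mul_inv_eq_iff_eq_mul.1 ρm).symm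
    obtain ⟨v, hv, k⟩ := f.eq_of_sq hm hC ((cm.mul_right cm).pow_right n).eq (by rw [hz, m2])
    have iv : u * (ρ * ρ) ^ n * u⁻¹ = (ρ * ρ) ^ n * f.z := by
      rw [← conj_pow, ← conj_mul, ρu, ← mul_inv_rev, inv_pow, inv_eq_iff_mul_eq_one, ← mul_assoc, hz, f.zz]
    rcases af _ (k ▸ mul_mem hm (f.VL hv)) with k' | k' <;> rw [iv] at k'
    · exact f.z_ne (by simpa using k')
    · exact c2 (by simpa using k'.symm)
  have ρ2 : ρ * ρ = f.z := by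
    have := inz 2 (pow_two ρ ▸ f.sq_R hρ) (by rwa [pow_two])
    rw [pow_two] at this
    exact this.resolve_left h1
  obtain ⟨v, hv, v2, va, vs, vL⟩ := corr f hρ ρa ρs ρ2
  refine ⟨v, hv, v2, va, vs, (f.onto_or_fix hv v2 (notC f va f.z_ne)).resolve_right fun hf' => ?_⟩
  have bL : f.b ∈ f.L := subset_closure (by simp)
  have uγ : u * γ * u⁻¹ = γ * c := (af γ hγ).resolve_left ne
  have sb : f.s * f.b * f.s⁻¹ = f.b * γ⁻¹ := by
    rw [← sγ, mul_assoc f.b⁻¹, inv_mul_eq_iff_eq_mul] at *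
    rw [bγ]; group
  have cc := f.elW.sq c c0
  have ci : c⁻¹ = c := inv_eq_of_mul_eq_one_right cc
  have cγ : c * γ⁻¹ = γ⁻¹ * c := f.commL (f.VL (f.WV c0)) (inv_mem hγ)
  have uγ' : u * γ⁻¹ * u⁻¹ = γ⁻¹ * c := by rw [← conj_inv, uγ, mul_inv_rev, ci, cγ]
  have sγ' : f.s * γ⁻¹ * f.s⁻¹ = γ := by rw [← conj_inv, sγ, inv_inv]
  have key : ρ * f.b * ρ⁻¹ = f.b * (c * f.z) ∨ ρ * f.b * ρ⁻¹ = f.b * c := by
    rw [act]
    rcases af _ bL with k | k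
    · left
      rw [k, sb, cm _ f.b, k, uγ', ← conj_mul, cm _ γ⁻¹, sb, sγ', s_c f hc]
      group
    · right
      rw [k, cm _ f.b, sb, s_c f hc, cm _ (f.b * γ⁻¹), cm _ f.b, k, uγ',
        fixR f hu (mul_mem c0 (zW f)), mul_assoc f.b, ← mul_assoc c, cγ, mul_assoc γ⁻¹, cc, mul_one,
        ← conj_mul, cm _ f.b, cm _ c, sb, sγ', s_c f hc, fixz f f.sS, mul_assoc c, f.zz]
      group
  rw [← vL _ bL] at key
  have cz : c * f.z ≠ 1 := fun e => c2 (by rw [← mul_one c, ← f.zz, ← mul_assoc, e, one_mul])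
  rcases f.act_fix hv v2 hf' va bL with k | k <;> rw [k] at key <;> rcases key with e | e
  · exact cz (by simpa using e)
  · exact c1 (by simpa using e)
  · exact c1 (by simpa using e)
  · exact c2 (by simpa using e.symm)

theorem fix_conj {v g : G} (hf : f.Fix v) (h1 : g ∈ normalizer (f.W : Set G))
    (h2 : g ∈ normalizer (f.L : Set G)) : f.Fix (g * v * g⁻¹) := fun u hu => by
  obtain ⟨m, hm, m2, k⟩ := hf _ ((mem_normalizer_iff''.1 h1 u).1 hu)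
  exact ⟨g * m * g⁻¹, (mem_normalizer_iff.1 h2 m).1 hm, by rw [conj_mul, m2]; group,
    by rw [conj_mul, conj_mul, k]⟩

end OmD

open OmD

theorem Fr.exists_onto (f : Fr G) (hs : f.s * f.s = 1) {v : G} (hv : v ∈ f.R) (v2 : v * v = 1)
    (va : v * f.a * v⁻¹ = f.a * f.z) (hc : v * f.s = f.s * v) (hf : f.Fix v) :
    ∃ v' ∈ f.R, v' * v' = 1 ∧ v' * f.a * v'⁻¹ = f.a * f.z ∧ v' * f.s = f.s * v' ∧ f.Onto v' := by
  obtain ⟨-, -, -, -, γ, hγ, γ2, sγ, bγ⟩ := f.out f.sS f.s_not hs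
  have bL : f.b ∈ f.L := subset_closure (by simp)
  have vs : v * f.s * v⁻¹ = f.s := by rw [hc, mul_inv_cancel_right]
  have vγ : v * γ * v⁻¹ = γ := by
    have := congrArg (fun x => v * x * v⁻¹) bγ
    simp only [← conj_mul, vs, ← conj_inv] at this
    rcases f.act_fix hv v2 hf va bL with k | k <;> rw [k] at this
    · rw [bγ] at this; exact (mul_left_cancel this).symm
    · rw [mul_inv_rev, mul_assoc f.z⁻¹, mul_assoc f.z⁻¹, ← mul_assoc _ f.b, bγ,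
        ← f.zc _ (mul_mem f.sS (f.RS (f.CR (f.LC hγ)))), inv_mul_cancel_left] at this
      exact (mul_left_cancel this).symm
  have yz : f.y⁻¹ * f.z * f.y⁻¹⁻¹ = f.z * f.w := by
    have : f.y * (f.z * f.w) * f.y⁻¹ = f.z := by
      rw [← conj_mul, f.yz, f.yw, f.commV f.zV f.wV, ← mul_assoc, f.ww, one_mul]
    nth_rewrite 1 [← this]
    group
  have ya : f.y⁻¹ * f.a * f.y⁻¹⁻¹ = f.a := by
    nth_rewrite 1 [← f.ya]
    group
  have tr : ∀ g c : G, g ∈ normalizer (f.R : Set G) → g ∈ normalizer (f.W : Set G) →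
      g ∈ normalizer (f.L : Set G) → g * f.a * g⁻¹ = f.a → g * f.z * g⁻¹ = c → c = f.w ∨ c = f.z * f.w →
      (∃ v' ∈ f.R, v' * v' = 1 ∧ v' * f.a * v'⁻¹ = f.a * f.z ∧ v' * f.s = f.s * v' ∧ f.Onto v') ∨
        v * (g⁻¹ * γ * g) = g⁻¹ * γ * g * v := fun g c g1 g2 g3 ga gz hc => by
    by_cases ne : g * v * g⁻¹ * γ * (g * v * g⁻¹)⁻¹ = γ
    · right
      nth_rewrite 2 [← ne]
      group
    · refine .inl (caseA f hs ((mem_normalizer_iff.1 g1 v).1 hv) (by rw [conj_mul, v2]; simp) hc ?_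
        (fix_conj f hf g2 g3) hγ sγ bγ ne)
      rw [← gz]
      nth_rewrite 1 [← ga]
      rw [conj_mul, conj_inv, conj_mul, va, ← conj_mul, ga]
  rcases tr _ _ f.yR' f.yW f.yL f.ya f.yz (.inl rfl) with k1 | k1
  · exact k1
  rcases tr _ _ (inv_mem f.yR') (inv_mem f.yW) (inv_mem f.yL) ya yz (.inr rfl) with k2 | k2
  · exact k2
  rw [inv_inv] at k2
  have k0 : Commute v γ := mul_inv_eq_iff_eq_mul.1 vγ
  rcases f.norm_y hγ with ⟨hB, -⟩ | ⟨-, k⟩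
  swap
  · have : Commute v f.a := k ▸ (k0.mul_right k2).mul_right k1
    rw [this.eq, mul_inv_cancel_right] at va
    exact (f.z_ne (by simpa using va)).elim
  refine (f.noB hv (notC f va f.z_ne) v2 ?_).elim
  obtain ⟨u, hu, k⟩ := f.mem_B.1 hB
  have sq : ∀ m ∈ f.L, m * u * (m * u) = m * m := fun m hm => by
    rw [mul_assoc, ← mul_assoc u, f.commL (f.VL (f.WV hu)) hm, mul_assoc, f.elW.sq u hu, mul_one]
  have lL : f.l ∈ f.L := subset_closure (by simp)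
  have cW : ∀ x ∈ f.W, Commute v x⁻¹ := fun x hx => (f.mem_R.1 hv).2 _ (inv_mem hx)
  rcases k with rfl | rfl | rfl | rfl
  · exact absurd (γ2.symm.trans (f.elW.sq _ hu)) f.z_ne
  · have e1 : Commute v f.l := by simpa using k0.mul_right (cW u hu)
    have e2 : Commute v f.b := by
      have := (show Commute v _ from k2).mul_right (cW _ ((mem_normalizer_iff.1 f.yW u).1 hu))
      rwa [← conj_mul, mul_inv_cancel_right] at this
    intro x hx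
    have : f.B ≤ centralizer {v} := closure_le _ |>.2 (by
      rintro _ (rfl | rfl)
      exacts [mem_centralizer_singleton_iff.2 e1.symm.eq, mem_centralizer_singleton_iff.2 e2.symm.eq])
    exact (mem_centralizer_singleton_iff.1 (this hx)).symm
  · exact absurd (f.bb.symm.trans ((sq _ bL).symm.trans γ2)) f.w_ne_z
  · rw [sq _ (mul_mem lL bL), mul_assoc, ← mul_assoc f.b, f.commL bL lL, mul_assoc, f.bb, ← mul_assoc,
      f.ll] at γ2
    exact absurd γ2 (zwz f)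

theorem Fr.omega (f : Fr G) {t : G} (ht : t ∈ f.S) (t1 : t ∉ f.R) (t2 : t * t = 1) (h1 : f.H1 t) : Rk 16 f.S := by
  obtain ⟨f, hi, rfl, e1, e2, e3, -⟩ := f.refit ht t1 t2
  rw [← e1]
  replace h1 : f.H1 f.s := by
    unfold Fr0.H1 at h1 ⊢
    rwa [e1, e2, e3]
  by_cases h2 : f.H2 f.s
  · obtain ⟨ρ, hρ⟩ := f.cyc t2 h1 h2
    exact (f.tor hi hρ).2
  exfalso
  simp only [Fr0.H2, not_forall, not_not] at h2
  obtain ⟨r, hr, rE, h4⟩ := h2
  obtain ⟨c, hc, ra⟩ := f.act_R hr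
  have hc' : c = f.w ∨ c = f.z * f.w := by
    rcases f.mem_W.1 hc with rfl | rfl | k | k
    exacts [absurd (f.mem_E.2 ⟨f.RS hr, .inl (by simpa using ra)⟩) rE,
      absurd (f.mem_E.2 ⟨f.RS hr, .inr ra⟩) rE, .inl k, .inr k]
  obtain ⟨hρ, ρa, ρs⟩ := rho f t2 hr hc' ra
  generalize f.s * (r * f.s * r⁻¹) = ρ at hρ ρa ρs h4
  have h4' : ρ * ρ * (ρ * ρ) = 1 := by rw [← h4]; simp only [pow_succ, pow_zero, one_mul, mul_assoc]
  obtain ⟨v, hv, v2, va, vs⟩ : ∃ v ∈ f.R, v * v = 1 ∧ v * f.a * v⁻¹ = f.a * f.z ∧ v * f.s = f.s * v := by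
    rcases fixV f (f.inv_C (f.sq_R hρ) h4') hρ ρa f.z_ne (by group) (by
      rw [← conj_mul, ρs, ← mul_inv_rev, inv_eq_of_mul_eq_one_right h4']) with k | k
    · exact ⟨ρ, hρ, k, ρa, by rw [eq_comm, ← mul_inv_eq_iff_eq_mul, ρs, inv_eq_of_mul_eq_one_right k]⟩
    · obtain ⟨v, hv, v2, va, vs, -⟩ := corr f hρ ρa ρs k
      exact ⟨v, hv, v2, va, vs⟩
  rcases f.onto_or_fix hv v2 (notC f va f.z_ne) with k | k
  · exact f.no_onto hi h1 hv v2 va vs k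
  · obtain ⟨v, hv, v2, va, vs, k⟩ := f.exists_onto t2 hv v2 va vs k
    exact f.no_onto hi h1 hv v2 va vs k

end Cfsg.Agent.R3
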